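import Cfsg.Agent.Lib.ThreeCubedSymFour.Model

/-!
# Computations in the model `3^3:S4`

* facts about powers, centralizers, commutators
* `toPerm`: the action on nine points; `range_toPerm`, `map_toPerm_small`
-/

set_option autoImplicit false

namespace Cfsg.Agent.ThreeCubedSymFour

/-- A coordinate vector. -/
def jAxis : Q := el 0 0 1 0 false false false
/-- A coordinate vector fixed by `vAxis`. -/
def jV : Q := el 1 0 0 0 false false false
/-- A vector fixed by `wSwap`. -/
def jW : Q := el 0 1 1 0 false false false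
/-- The block rotation. -/
def rotQ : Q := el 0 0 0 1 false false false

/-- The thirty-sixth power, by squaring. -/
def pow36 (x : Q) : Q :=
  let p2 := x * x
  let p4 := p2 * p2
  let p8 := p4 * p4
  let p9 := p8 * x
  let p18 := p9 * p9
  p18 * p18

theorem pow36_eq : ∀ x : Q, pow36 x = 1 := by decide +kernel

theorem pow_thirty_six (x : Q) : x ^ 36 = 1 := by
  rw [← pow36_eq x]; simp only [pow36, pow_succ, pow_zero, one_mul, mul_assoc]

theorem cube_of_right : ∀ x : Q, x.right = 1 → x * x * x = 1 := by decide +kernel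

/-- The cube of an element of order dividing nine lies in the space. -/
theorem cube_right (x : Q) (h : x ^ 9 = 1) : (x * x * x).right = 1 := by
  have key : ∀ x : Q, x * x * x * (x * x * x) * (x * x * x) = 1 → (x * x * x).right = 1 := by
    decide +kernel
  exact key x (by simpa only [pow_succ, pow_zero, one_mul, mul_assoc] using h)

/-- Where a table is not zero the fourth power lies in the space, for order dividing twelve. -/
theorem fourth_right (x : Q) (h : valueAt tabP x ≠ .zero ∨ valueAt tabB x ≠ .zero ∨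
    valueAt tabC x ≠ .zero ∨ valueAt tabA x ≠ .zero ∨ valueAt tabE x ≠ .zero) (h12 : x ^ 12 = 1) :
    (x * x * (x * x)).right = 1 := by
  have key : ∀ x : Q, (valueAt tabP x ≠ .zero ∨ valueAt tabB x ≠ .zero ∨
      valueAt tabC x ≠ .zero ∨ valueAt tabA x ≠ .zero ∨ valueAt tabE x ≠ .zero) →
      x * x * (x * x) * (x * x * (x * x)) * (x * x * (x * x)) = 1 →
      (x * x * (x * x)).right = 1 := by
    decide +kernel
  refine key x h ?_
  rw [← h12, show (12 : ℕ) = 4 * 3 from rfl, pow_mul, pow_three',
    show x ^ 4 = x * x * (x * x) by simp only [pow_succ, pow_zero, one_mul, mul_assoc]]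

theorem comm_of_right (x y : Q) (hx : x.right = 1) (hy : y.right = 1) : x * y = y * x := by
  refine SemidirectProduct.ext ?_ (by simp [hx, hy])
  simp [hx, hy, mul_comm]

theorem plane_in_centralizer_v : ∀ x : Q, x * vAxis = vAxis * x →
    x * x * x * (x * x * x) * (x * x * x) = 1 → x.right = 1 := by decide +kernel

theorem plane_in_centralizer_w : ∀ x : Q, x * wSwap = wSwap * x →
    x * x * x * (x * x * x) * (x * x * x) = 1 → x.right = 1 := by decide +kernel

theorem normal_three : ∀ x : Q, x * x * x * (x * x * x) * (x * x * x) = 1 → x.right ≠ 1 →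
    let z := x * vAxis * x⁻¹ * vAxis⁻¹
    z * z * z * (z * z * z) * (z * z * z) ≠ 1 := by decide +kernel

theorem conj_of_centralizer : ∀ v : Multiplicative V3,
    (Finset.univ.filter fun z : Q => z * SemidirectProduct.inl v = SemidirectProduct.inl v * z).card =
      (Finset.univ.filter fun z : Q => z * jAxis = jAxis * z).card →
    ∃ z : Q, z * jAxis * z⁻¹ = SemidirectProduct.inl v := by decide +kernel

set_option synthInstance.maxSize 2000 in
theorem facts_fixed : jV.right = 1 ∧ jV ≠ 1 ∧ jV * vAxis = vAxis * jV ∧ jW.right = 1 ∧ jW ≠ 1 ∧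
    jW * wSwap = wSwap * jW ∧ jAxis.right = 1 ∧ jAxis ≠ 1 ∧ vAxis * vAxis = 1 ∧ vAxis ≠ 1 ∧
    wSwap * wSwap = 1 ∧ wSwap ≠ 1 ∧ kind vAxis = 4 ∧ kind wSwap = 9 := by decide +kernel

theorem not_conj_vw : ∀ y : Q, y * vAxis * y⁻¹ ≠ wSwap := by decide +kernel

theorem swap_iff : ∀ x : Q, x.right.w = true ↔
    (kind x = 6 ∨ kind x = 7 ∨ kind x = 8 ∨ kind x = 9 ∨ kind x = 10) := by decide +kernel

set_option synthInstance.maxSize 2000 in
theorem commutator_witness :
    rep 1 = decode 2 * decode 27 * (decode 2)⁻¹ * (decode 27)⁻¹ ∧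
    rep 2 = decode 1 * decode 135 * (decode 1)⁻¹ * (decode 135)⁻¹ ∧
    rep 3 = decode 5 * decode 216 * (decode 5)⁻¹ * (decode 216)⁻¹ ∧
    rep 5 = decode 54 * decode 117 * (decode 54)⁻¹ * (decode 117)⁻¹ ∧
    rep 13 = decode 137 * decode 263 * (decode 137)⁻¹ * (decode 263)⁻¹ ∧
    rep 7 * wSwap = decode 27 * decode 450 * (decode 27)⁻¹ * (decode 450)⁻¹ ∧
    rep 8 * wSwap = decode 27 * decode 441 * (decode 27)⁻¹ * (decode 441)⁻¹ := by decide +kernel

theorem small_generation : ∀ x : Q, x.right.r = 0 → x.right.w = false →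
    x = (if x.left.toAdd.1 = 0 then 1 else el x.left.toAdd.1 0 0 0 false true false * el 0 0 0 0 false true false) *
        (if x.left.toAdd.2.1 = 0 then 1 else el 0 x.left.toAdd.2.1 0 0 false false true * el 0 0 0 0 false false true) *
        (if x.left.toAdd.2.2 = 0 then 1 else el 0 0 x.left.toAdd.2.2 0 false false true * el 0 0 0 0 false false true) *
        el 0 0 0 0 false x.right.s x.right.t ∧
      (x.left.toAdd.1 ≠ 0 → kind (el x.left.toAdd.1 0 0 0 false true false) = 4) ∧
      (x.left.toAdd.2.1 ≠ 0 → kind (el 0 x.left.toAdd.2.1 0 0 false false true) = 4) ∧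
      (x.left.toAdd.2.2 ≠ 0 → kind (el 0 0 x.left.toAdd.2.2 0 false false true) = 4) ∧
      kind (el 0 0 0 0 false true false) = 4 ∧ kind (el 0 0 0 0 false false true) = 4 ∧
      (el 0 0 0 0 false x.right.s x.right.t = 1 ∨ kind (el 0 0 0 0 false x.right.s x.right.t) = 4) := by
  decide +kernel

theorem shift_out : ∀ g h : Mon, g.w = false → h.w = false → h.r ≠ 0 →
    (g.r = 0 ∨ ((h⁻¹ * g).r = 0 ∧ (h⁻¹ * g).w = false) ∨ ((h * g).r = 0 ∧ (h * g).w = false)) := by
  decide +kernel

theorem swap_commutator : ∀ x : Q, x.right.w = true →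
    (x * rotQ * x⁻¹ * rotQ⁻¹).right.w = false ∧ (x * rotQ * x⁻¹ * rotQ⁻¹).right.r ≠ 0 := by
  decide +kernel

/-- Translation of the nine points. -/
def transPerm (v : V3) : Equiv.Perm (Fin 3 × ZMod 3) where
  toFun p := (p.1, p.2 + ![v.1, v.2.1, v.2.2] p.1)
  invFun p := (p.1, p.2 - ![v.1, v.2.1, v.2.2] p.1)
  left_inv p := by simp
  right_inv p := by simp

/-- The linear part on the nine points. -/
def linFun (g : Mon) (p : Fin 3 × ZMod 3) : Fin 3 × ZMod 3 :=
  let i := permTriple g⁻¹.r g⁻¹.w ((0 : Fin 3), (1 : Fin 3), (2 : Fin 3))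
  let j : Fin 3 := ![i.1, i.2.1, i.2.2] p.1
  (j, if ![g.s, g.t, g.u] j then -p.2 else p.2)

theorem linFun_one : ∀ p, linFun 1 p = p := by decide +kernel
theorem linFun_mul : ∀ g h p, linFun (g * h) p = linFun g (linFun h p) := by decide +kernel

/-- The linear part as permutations. -/
def linPerm : Mon →* Equiv.Perm (Fin 3 × ZMod 3) where
  toFun g :=
    { toFun := linFun g
      invFun := linFun g⁻¹
      left_inv := fun p => by rw [← linFun_mul, inv_mul_cancel, linFun_one]
      right_inv := fun p => by rw [← linFun_mul, mul_inv_cancel, linFun_one] }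
  map_one' := by ext1 p; exact linFun_one p
  map_mul' g h := by ext1 p; exact linFun_mul g h p

/-- The translations as a homomorphism. -/
def transHom : Multiplicative V3 →* Equiv.Perm (Fin 3 × ZMod 3) where
  toFun v := transPerm v.toAdd
  map_one' := by
    ext1 p; obtain ⟨i, x⟩ := p; fin_cases i <;> simp [transPerm]
  map_mul' v w := by
    ext1 p; obtain ⟨i, x⟩ := p
    fin_cases i <;> simp [transPerm, add_comm, add_left_comm]

theorem lin_trans : ∀ g v p, transPerm (actV g v) (linFun g p) = linFun g (transPerm v p) := by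
  decide +kernel

/-- The nine points. -/
def nineEquiv : Fin 3 × ZMod 3 ≃ Fin 9 := finProdFinEquiv

/-- The model acting on nine points. -/
def toPerm : Q →* Equiv.Perm (Fin 9) :=
  nineEquiv.permCongrHom.toMonoidHom.comp (SemidirectProduct.lift transHom linPerm fun g =>
    MonoidHom.ext fun v => Equiv.ext fun p => by
      show transPerm (actV g v.toAdd) p = linFun g (transPerm v.toAdd (linFun g⁻¹ p))
      rw [← lin_trans, ← linFun_mul, mul_inv_cancel, linFun_one])

theorem toPerm_injective : Function.Injective toPerm := by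
  rw [injective_iff_map_eq_one]
  decide +kernel

theorem frozen_gens :
    toPerm (el 1 0 0 0 false false false) = Equiv.swap (0 : Fin 9) 1 * Equiv.swap 1 2 ∧
    toPerm (el 0 1 0 0 false false false) = Equiv.swap (3 : Fin 9) 4 * Equiv.swap 4 5 ∧
    toPerm (el 0 0 1 0 false false false) = Equiv.swap (6 : Fin 9) 7 * Equiv.swap 7 8 ∧
    toPerm rotQ = Equiv.swap (0 : Fin 9) 3 * Equiv.swap 3 6 * (Equiv.swap (1 : Fin 9) 4 * Equiv.swap 4 7) * (Equiv.swap (2 : Fin 9) 5 * Equiv.swap 5 8) ∧
    toPerm (el 1 1 0 0 false true true) = Equiv.swap (0 : Fin 9) 1 * Equiv.swap 3 4 ∧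
    toPerm (el 1 0 1 0 false true false) = Equiv.swap (0 : Fin 9) 1 * Equiv.swap 6 7 ∧
    toPerm (el 0 0 1 1 true false false) = Equiv.swap (0 : Fin 9) 3 * Equiv.swap 1 4 * Equiv.swap 2 5 * Equiv.swap 6 7 := by
  decide +kernel

theorem full_decomposition : ∀ g : Mon, ∃ i : Fin 3, ∃ j : Fin 2, ∃ k : Fin 2, ∃ l : Fin 2,
    g = (⟨1, false, false, false⟩ : Mon) ^ (i : ℕ) * (⟨1, true, false, false⟩ : Mon) ^ (j : ℕ) *
      ((⟨0, false, true, true⟩ : Mon) ^ (k : ℕ) * (⟨0, false, true, false⟩ : Mon) ^ (l : ℕ)) := by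
  decide +kernel

theorem inl_decomposition : ∀ v : Multiplicative V3, (SemidirectProduct.inl v : Q) =
    el 1 0 0 0 false false false ^ v.toAdd.1.val * el 0 1 0 0 false false false ^ v.toAdd.2.1.val *
      el 0 0 1 0 false false false ^ v.toAdd.2.2.val := by decide +kernel

theorem inr_decomposition :
    (SemidirectProduct.inr (⟨0, false, true, true⟩ : Mon) : Q) =
      el 2 0 0 0 false false false * el 0 2 0 0 false false false * el 1 1 0 0 false true true ∧
    (SemidirectProduct.inr (⟨1, true, false, false⟩ : Mon) : Q) =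
      el 0 0 2 0 false false false * el 0 0 1 1 true false false ∧
    (SemidirectProduct.inr (⟨0, false, true, false⟩ : Mon) : Q) =
      rotQ * rotQ * (el 2 0 0 0 false false false * el 0 2 0 0 false false false * el 1 1 0 0 false true true) * (rotQ * rotQ)⁻¹ ∧
    (SemidirectProduct.inr (⟨1, false, false, false⟩ : Mon) : Q) = rotQ := by decide +kernel

/-- The frozen group of degree nine is the image of the model. -/
theorem range_toPerm :
    toPerm.range = Subgroup.closure ({Equiv.swap (0 : Fin 9) 1 * Equiv.swap 1 2,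
        Equiv.swap (0 : Fin 9) 3 * Equiv.swap 3 6 * (Equiv.swap (1 : Fin 9) 4 * Equiv.swap 4 7) * (Equiv.swap (2 : Fin 9) 5 * Equiv.swap 5 8),
        Equiv.swap (0 : Fin 9) 1 * Equiv.swap 3 4, Equiv.swap (0 : Fin 9) 3 * Equiv.swap 1 4 * Equiv.swap 2 5 * Equiv.swap 6 7} : Set (Equiv.Perm (Fin 9))) := by
  obtain ⟨g1, -, -, g4, g5, -, g7⟩ := frozen_gens
  rw [← g1, ← g4, ← g5, ← g7]
  refine le_antisymm ?_ ((Subgroup.closure_le _).2 ?_)
  · set S := Subgroup.closure ({el 1 0 0 0 false false false, rotQ, el 1 1 0 0 false true true,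
      el 0 0 1 1 true false false} : Set Q) with hS
    have h1 : el 1 0 0 0 false false false ∈ S := Subgroup.subset_closure (by simp)
    have hr : rotQ ∈ S := Subgroup.subset_closure (by simp)
    have h5 : el 1 1 0 0 false true true ∈ S := Subgroup.subset_closure (by simp)
    have h7 : el 0 0 1 1 true false false ∈ S := Subgroup.subset_closure (by simp)
    have h2 : el 0 1 0 0 false false false ∈ S := by
      rw [show el 0 1 0 0 false false false = rotQ * el 1 0 0 0 false false false * rotQ⁻¹ by decide +kernel]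
      exact mul_mem (mul_mem hr h1) (inv_mem hr)
    have h3 : el 0 0 1 0 false false false ∈ S := by
      rw [show el 0 0 1 0 false false false = rotQ * el 0 1 0 0 false false false * rotQ⁻¹ by decide +kernel]
      exact mul_mem (mul_mem hr h2) (inv_mem hr)
    obtain ⟨e1, e2, e3, e4⟩ := inr_decomposition
    have k1 : el 2 0 0 0 false false false ∈ S := by
      rw [show el 2 0 0 0 false false false = el 1 0 0 0 false false false * el 1 0 0 0 false false false by decide +kernel]
      exact mul_mem h1 h1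
    have k2 : el 0 2 0 0 false false false ∈ S := by
      rw [show el 0 2 0 0 false false false = el 0 1 0 0 false false false * el 0 1 0 0 false false false by decide +kernel]
      exact mul_mem h2 h2
    have k3 : el 0 0 2 0 false false false ∈ S := by
      rw [show el 0 0 2 0 false false false = el 0 0 1 0 false false false * el 0 0 1 0 false false false by decide +kernel]
      exact mul_mem h3 h3
    have top : ∀ x : Q, x ∈ S := by
      intro x
      rw [← SemidirectProduct.inl_left_mul_inr_right x, inl_decomposition]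
      refine mul_mem (mul_mem (mul_mem (pow_mem h1 _) (pow_mem h2 _)) (pow_mem h3 _)) ?_
      obtain ⟨i, j, k, l, hg⟩ := full_decomposition x.right
      rw [hg, map_mul, map_mul, map_mul, map_pow, map_pow, map_pow, map_pow, e1, e2, e3, e4]
      exact mul_mem (mul_mem (pow_mem hr _) (pow_mem (mul_mem k3 h7) _))
        (mul_mem (pow_mem (mul_mem (mul_mem k1 k2) h5) _)
          (pow_mem (mul_mem (mul_mem (mul_mem hr hr) (mul_mem (mul_mem k1 k2) h5))
            (inv_mem (mul_mem hr hr))) _))
    rintro _ ⟨x, rfl⟩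
    have := Subgroup.mem_map_of_mem toPerm (top x)
    rw [hS, MonoidHom.map_closure] at this
    simpa only [Set.image_insert_eq, Set.image_singleton] using this
  · rintro x (rfl | rfl | rfl | rfl) <;> exact ⟨_, rfl⟩

/-- The subgroup `3^3:2^2`. -/
def smallSub : Subgroup Q where
  carrier := {x | x.right.r = 0 ∧ x.right.w = false}
  one_mem' := ⟨rfl, rfl⟩
  mul_mem' {a b} ha hb := by
    have key : ∀ g h : Mon, g.r = 0 → g.w = false → h.r = 0 → h.w = false →
        (g * h).r = 0 ∧ (g * h).w = false := by decide +kernel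
    exact key _ _ ha.1 ha.2 hb.1 hb.2
  inv_mem' {a} ha := by
    have key : ∀ g : Mon, g.r = 0 → g.w = false → g⁻¹.r = 0 ∧ g⁻¹.w = false := by decide +kernel
    exact key _ ha.1 ha.2

theorem mem_smallSub (x : Q) : x ∈ smallSub ↔ x.right.r = 0 ∧ x.right.w = false := Iff.rfl

/-- The image of `3^3:2^2`. -/
theorem map_toPerm_small :
    smallSub.map toPerm = Subgroup.closure ({Equiv.swap (0 : Fin 9) 1 * Equiv.swap 1 2, Equiv.swap (3 : Fin 9) 4 * Equiv.swap 4 5, Equiv.swap (6 : Fin 9) 7 * Equiv.swap 7 8,
        Equiv.swap (0 : Fin 9) 1 * Equiv.swap 3 4, Equiv.swap (0 : Fin 9) 1 * Equiv.swap 6 7} : Set (Equiv.Perm (Fin 9))) := by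
  obtain ⟨g1, g2, g3, -, g5, g6, -⟩ := frozen_gens
  rw [← g1, ← g2, ← g3, ← g5, ← g6]
  refine le_antisymm ?_ ((Subgroup.closure_le _).2 ?_)
  · rintro _ ⟨x, hx, rfl⟩
    set S := Subgroup.closure ({el 1 0 0 0 false false false, el 0 1 0 0 false false false,
      el 0 0 1 0 false false false, el 1 1 0 0 false true true, el 1 0 1 0 false true false} : Set Q) with hS
    have h1 : el 1 0 0 0 false false false ∈ S := Subgroup.subset_closure (by simp)
    have h2 : el 0 1 0 0 false false false ∈ S := Subgroup.subset_closure (by simp)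
    have h3 : el 0 0 1 0 false false false ∈ S := Subgroup.subset_closure (by simp)
    have h5 : el 1 1 0 0 false true true ∈ S := Subgroup.subset_closure (by simp)
    have h6 : el 1 0 1 0 false true false ∈ S := Subgroup.subset_closure (by simp)
    have key : ∀ x : Q, x.right.r = 0 → x.right.w = false → ∃ k : Fin 2, ∃ l : Fin 2,
        (x * (el 1 1 0 0 false true true ^ (k : ℕ) * el 1 0 1 0 false true false ^ (l : ℕ))⁻¹).right = 1 := by
      decide +kernel
    obtain ⟨k, l, hkl⟩ := key x hx.1 hx.2
    have hw : el 1 1 0 0 false true true ^ (k : ℕ) * el 1 0 1 0 false true false ^ (l : ℕ) ∈ S :=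
      mul_mem (pow_mem h5 _) (pow_mem h6 _)
    set y := x * (el 1 1 0 0 false true true ^ (k : ℕ) * el 1 0 1 0 false true false ^ (l : ℕ))⁻¹
    have hy : y = SemidirectProduct.inl y.left := SemidirectProduct.ext rfl (by simpa using hkl)
    have hyS : y ∈ S := by
      rw [hy, inl_decomposition]
      exact mul_mem (mul_mem (pow_mem h1 _) (pow_mem h2 _)) (pow_mem h3 _)
    have hxS : x ∈ S := by
      have := mul_mem hyS hw
      simp only [y, inv_mul_cancel_right] at this
      exact this
    have := Subgroup.mem_map_of_mem toPerm hxS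
    rw [hS, MonoidHom.map_closure] at this
    simpa only [Set.image_insert_eq, Set.image_singleton] using this
  · rintro x (rfl | rfl | rfl | rfl | rfl) <;>
      exact Subgroup.mem_map_of_mem _ (by rw [mem_smallSub]; exact ⟨rfl, rfl⟩)

end Cfsg.Agent.ThreeCubedSymFour
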