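import Cfsg.Agent.Lib.ThreeCubedSymFour.Model
import Cfsg.Agent.Lib.Char.Induced
import Cfsg.Agent.Lib.Char.Virtual

/-!
# The five tables give generalized characters

* `RootThree.val`, `tableFun`
* `gen_P`, `gen_B`, `gen_C`, `gen_A`, `gen_E`
-/

set_option autoImplicit false

namespace Cfsg.Agent.ThreeCubedSymFour

open Cfsg Cfsg.Agent.Char

/-- The complex number of an element of `ℤ[√3]`. -/
noncomputable def RootThree.val (x : RootThree) : ℂ := x.a + x.b * (Real.sqrt 3 : ℂ)

theorem sqrt_three_sq : (Real.sqrt 3 : ℂ) * (Real.sqrt 3 : ℂ) = 3 := by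
  rw [← Complex.ofReal_mul, Real.mul_self_sqrt (by norm_num)]; norm_num

theorem RootThree.val_zero : RootThree.zero.val = 0 := by simp [RootThree.val, RootThree.zero]

theorem RootThree.val_add (x y : RootThree) : (x.add y).val = x.val + y.val := by
  simp [RootThree.val, RootThree.add]; ring

theorem RootThree.val_mul (x y : RootThree) : (x.mul y).val = x.val * y.val := by
  simp only [RootThree.val, RootThree.mul, Int.cast_add, Int.cast_mul, Int.cast_ofNat]
  linear_combination -((x.b : ℂ) * y.b) * sqrt_three_sq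

theorem RootThree.conj_val (x : RootThree) : starRingEnd ℂ x.val = x.val := by
  simp [RootThree.val, Complex.conj_ofReal]

/-- The class function of a table. -/
noncomputable def tableFun (T : List RootThree) (x : Q) : ℂ := (valueAt T x).val

/-- The primitive twelfth root of unity. -/
noncomputable def zeta : ℂ := ((Real.sqrt 3 : ℂ) + Complex.I) / 2

theorem zeta_four : zeta ^ 4 = zeta ^ 2 - 1 := by
  have hI : Complex.I * Complex.I = -1 := Complex.I_mul_I
  simp only [zeta]
  linear_combination (((Real.sqrt 3 : ℂ) * (Real.sqrt 3 : ℂ) + 6 * Complex.I * Complex.I - 1) / 16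
      + (Real.sqrt 3 : ℂ) * Complex.I / 4) * sqrt_three_sq
    + ((Complex.I * Complex.I + 13) / 16 + (Real.sqrt 3 : ℂ) * Complex.I / 4) * hI

theorem zeta_twelve : zeta ^ 12 = 1 := by
  linear_combination (zeta ^ 8 + zeta ^ 6 - zeta ^ 2 - 1) * zeta_four

theorem zeta_three : zeta ^ 3 = Complex.I := by
  have hI : Complex.I * Complex.I = -1 := Complex.I_mul_I
  simp only [zeta]
  linear_combination ((Real.sqrt 3 : ℂ) + 3 * Complex.I) / 8 * sqrt_three_sq
    + (3 * (Real.sqrt 3 : ℂ) + Complex.I) / 8 * hI

theorem zeta_sqrt : 2 * zeta - zeta ^ 3 = (Real.sqrt 3 : ℂ) := by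
  rw [zeta_three, zeta]; ring

/-- An element of `ℤ[ζ]` by coefficients. -/
structure Cyc where
  c₀ : Int
  c₁ : Int
  c₂ : Int
  c₃ : Int
  deriving DecidableEq

/-- The powers of the root of unity. -/
def powCyc : List Cyc := [⟨1, 0, 0, 0⟩, ⟨0, 1, 0, 0⟩, ⟨0, 0, 1, 0⟩, ⟨0, 0, 0, 1⟩, ⟨-1, 0, 1, 0⟩,
  ⟨0, -1, 0, 1⟩, ⟨-1, 0, 0, 0⟩, ⟨0, -1, 0, 0⟩, ⟨0, 0, -1, 0⟩, ⟨0, 0, 0, -1⟩, ⟨1, 0, -1, 0⟩,
  ⟨0, 1, 0, -1⟩]

/-- The complex number. -/
noncomputable def Cyc.val (x : Cyc) : ℂ := x.c₀ + x.c₁ * zeta + x.c₂ * zeta ^ 2 + x.c₃ * zeta ^ 3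

/-- Scaled sum. -/
def Cyc.addSmul (n : Int) (x y : Cyc) : Cyc :=
  ⟨y.c₀ + n * x.c₀, y.c₁ + n * x.c₁, y.c₂ + n * x.c₂, y.c₃ + n * x.c₃⟩

theorem Cyc.val_addSmul (n : Int) (x y : Cyc) : (Cyc.addSmul n x y).val = n * x.val + y.val := by
  simp [Cyc.val, Cyc.addSmul]; ring

theorem powCyc_val : ∀ k : ZMod 12, (powCyc.getD k.val ⟨0, 0, 0, 0⟩).val = zeta ^ k.val := by
  intro k
  fin_cases k <;> simp only [powCyc, ZMod.val] <;> simp [Cyc.val, -zeta_three]
  · linear_combination -zeta_four
  · linear_combination -zeta * zeta_four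
  · linear_combination -(zeta ^ 2 + 1) * zeta_four
  · linear_combination -(zeta ^ 3 + zeta) * zeta_four
  · linear_combination -(zeta ^ 4 + zeta ^ 2) * zeta_four
  · linear_combination -(zeta ^ 5 + zeta ^ 3) * zeta_four
  · linear_combination -(zeta ^ 6 + zeta ^ 4 - 1) * zeta_four
  · linear_combination -(zeta ^ 7 + zeta ^ 5 - zeta) * zeta_four

/-- A linear character on the subgroup of elements with monomial part in `sm`. -/
structure Lin where
  sm : Mon → Bool
  ev : V3 → ZMod 12
  em : Mon → ZMod 12
  trans : List Nat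

/-- Validity of the data. -/
def Lin.Valid (L : Lin) : Prop :=
  (L.sm 1 = true ∧ L.em 1 = 0 ∧ L.ev 0 = 0) ∧
  (∀ g h, L.sm g = true → L.sm h = true → L.sm (g * h) = true ∧ L.em (g * h) = L.em g + L.em h) ∧
  (∀ g, L.sm g = true → L.sm g⁻¹ = true) ∧
  (∀ v w, L.ev (v + w) = L.ev v + L.ev w) ∧
  (∀ g v, L.sm g = true → L.ev (actV g v) = L.ev v) ∧
  (L.trans.Pairwise fun a b => L.sm ((decode a)⁻¹ * decode b).right = false) ∧
  L.trans.length * (Finset.univ.filter fun g => L.sm g = true).card = 24

/-- The exponent. -/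
def Lin.expo (L : Lin) (x : Q) : ZMod 12 := L.ev x.left.toAdd + L.em x.right

/-- One term of the induced character. -/
def Lin.term (L : Lin) (g : Q) (a : Nat) : Cyc :=
  let z := (decode a)⁻¹ * g * decode a
  if L.sm z.right then powCyc.getD (L.expo z).val ⟨0, 0, 0, 0⟩ else ⟨0, 0, 0, 0⟩

/-- The induced character at an element, with coefficient, added to an accumulator. -/
def Lin.addInd (L : Lin) (n : Int) (g : Q) (acc : Cyc) : Cyc :=
  L.trans.foldr (fun a c => Cyc.addSmul n (L.term g a) c) acc

/-- A combination of induced characters at an element. -/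
def combAt (parts : List (Int × Lin)) (g : Q) : Cyc :=
  parts.foldr (fun p c => p.2.addInd p.1 g c) ⟨0, 0, 0, 0⟩

theorem Lin.addInd_val (L : Lin) (n : Int) (g : Q) (acc : Cyc) :
    (L.addInd n g acc).val = n * (L.trans.map fun a => (L.term g a).val).sum + acc.val := by
  unfold Lin.addInd
  induction L.trans with
  | nil => simp
  | cons a l ih => rw [List.foldr_cons, Cyc.val_addSmul, ih, List.map_cons, List.sum_cons]; ring

theorem Lin.exists_character (L : Lin) (hL : L.Valid) : ∃ χ : Q → ℂ, IsCharacter Q χ ∧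
    IsClassFunction Q χ ∧ ∀ g, χ g = (L.trans.map fun a => (L.term g a).val).sum := by
  classical
  obtain ⟨⟨h1, he1, hv1⟩, hmul, hinv, hadd, hact, hpair, hcount⟩ := hL
  let A : Subgroup Q :=
    { carrier := {x | L.sm x.right = true}
      one_mem' := h1
      mul_mem' := fun {a b} ha hb => (hmul _ _ ha hb).1
      inv_mem' := fun {a} ha => hinv _ ha }
  have hexp : ∀ a b : Q, L.sm a.right = true → L.sm b.right = true →
      L.expo (a * b) = L.expo a + L.expo b := by
    intro a b ha hb
    have e1 : (a * b).left.toAdd = a.left.toAdd + actV a.right b.left.toAdd := rfl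
    simp only [Lin.expo, e1, SemidirectProduct.mul_right, hadd, hact _ _ ha, (hmul _ _ ha hb).2]
    abel
  have hz : ∀ a b : ZMod 12, zeta ^ (a + b).val = zeta ^ a.val * zeta ^ b.val := by
    intro a b
    rw [← pow_add, ZMod.val_add, pow_eq_pow_mod (a.val + b.val) zeta_twelve]
  let l : A →* ℂ :=
    { toFun := fun a => zeta ^ (L.expo a.1).val
      map_one' := by
        have : L.expo 1 = 0 := by
          show L.ev (0 : V3) + L.em 1 = 0
          rw [hv1, he1, add_zero]
        simp [this]
      map_mul' := fun a b => by simp only [Subgroup.coe_mul, hexp _ _ a.2 b.2, hz] }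
  refine ⟨indFun A l, IsCharacter.indFun A (isCharacter_of_hom l), indFun_isClassFunction _ _,
    fun g => ?_⟩
  have hterm : ∀ a, (L.term g a).val = extendByZero A l ((decode a)⁻¹ * g * decode a) := by
    intro a
    unfold Lin.term
    by_cases h : L.sm ((decode a)⁻¹ * g * decode a).right = true
    · rw [extendByZero_mem A _ (show (decode a)⁻¹ * g * decode a ∈ A from h)]
      simp only [h, if_true]
      exact powCyc_val _
    · rw [extendByZero_not_mem A _ (show (decode a)⁻¹ * g * decode a ∉ A from h)]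
      simp only [h, if_false]
      simp [Cyc.val]
  simp only [hterm]
  let T := Fin L.trans.length
  let φ : T × A → Q := fun p => decode (L.trans.get p.1) * p.2
  have hAcard : Nat.card A = 27 * (Finset.univ.filter fun g => L.sm g = true).card := by
    have : Nat.card A = (Finset.univ.filter fun x : Q => L.sm x.right = true).card :=
      Nat.subtype_card _ fun x => by simp [A]
    rw [this, show (Finset.univ.filter fun x : Q => L.sm x.right = true) =
      (Finset.univ ×ˢ (Finset.univ.filter fun g => L.sm g = true)).map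
        SemidirectProduct.equivProd.symm.toEmbedding by ext x; simp [SemidirectProduct.equivProd],
      Finset.card_map, Finset.card_product]
    rfl
  have hφ : Function.Bijective φ := by
    refine (Fintype.bijective_iff_injective_and_card φ).2 ⟨?_, ?_⟩
    · rintro ⟨i, a⟩ ⟨j, b⟩ e
      simp only [φ] at e
      have hij : i = j := by
        by_contra hne
        have key : ∀ {i j : T} (a b : A), decode (L.trans.get i) * (a : Q) =
            decode (L.trans.get j) * b → ¬ i < j := by
          intro i j a b e hlt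
          have := List.pairwise_iff_get.1 hpair i j hlt
          have h2 : (decode (L.trans.get i))⁻¹ * decode (L.trans.get j) = (a : Q) * (b : Q)⁻¹ := by
            rw [inv_mul_eq_iff_eq_mul, ← mul_assoc, e, mul_inv_cancel_right]
          rw [h2] at this
          have h3 : L.sm ((a : Q) * (b : Q)⁻¹).right = true := A.mul_mem a.2 (A.inv_mem b.2)
          rw [h3] at this
          cases this
        rcases lt_or_gt_of_ne hne with h | h
        · exact key a b e h
        · exact key b a e.symm h
      subst hij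
      exact Prod.ext rfl (Subtype.ext (mul_left_cancel e))
    · rw [Fintype.card_prod, Fintype.card_fin, ← Nat.card_eq_fintype_card (α := A), hAcard,
        show Fintype.card Q = 648 by decide +kernel]
      rw [← mul_assoc, mul_comm L.trans.length 27, mul_assoc, hcount]; norm_num
  unfold indFun
  rw [← Fintype.sum_equiv (Equiv.ofBijective φ hφ) (fun p => extendByZero A l ((φ p)⁻¹ * g * φ p)) _
    (fun p => rfl), Fintype.sum_prod_type]
  have hconst : ∀ (i : T) (a : A), extendByZero A l ((φ (i, a))⁻¹ * g * φ (i, a)) =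
      extendByZero A l ((decode (L.trans.get i))⁻¹ * g * decode (L.trans.get i)) := by
    intro i a
    set z := (decode (L.trans.get i))⁻¹ * g * decode (L.trans.get i)
    have e : (φ (i, a))⁻¹ * g * φ (i, a) = (a : Q)⁻¹ * z * a := by simp only [φ, z]; group
    rw [e]
    by_cases h : z ∈ A
    · rw [extendByZero_mem A _ h, extendByZero_mem A _ (A.mul_mem (A.mul_mem (A.inv_mem a.2) h) a.2)]
      have : (⟨(a : Q)⁻¹ * z * a, A.mul_mem (A.mul_mem (A.inv_mem a.2) h) a.2⟩ : A) =
          a⁻¹ * ⟨z, h⟩ * a := rfl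
      rw [this, map_mul, map_mul, mul_comm (l a⁻¹), mul_assoc, ← map_mul, inv_mul_cancel, map_one,
        mul_one]
    · rw [extendByZero_not_mem A _ h, extendByZero_not_mem A _ fun h' => h ?_]
      have := A.mul_mem (A.mul_mem a.2 h') (A.inv_mem a.2)
      simpa [mul_assoc] using this
  simp only [hconst, Finset.sum_const, Finset.card_univ, ← Nat.card_eq_fintype_card, nsmul_eq_mul]
  rw [← Finset.mul_sum, ← mul_assoc,
    inv_mul_cancel₀ (Nat.cast_ne_zero.2 Nat.card_pos.ne'), one_mul]
  simp only [List.get_eq_getElem]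
  rw [← List.sum_ofFn]
  congr 1
  exact List.ofFn_getElem_eq_map L.trans fun a => extendByZero A l ((decode a)⁻¹ * g * decode a)

/-- The table check. -/
def CombTable (parts : List (Int × Lin)) (T : List RootThree) : Prop :=
  ∀ j : Fin 14, combAt parts (rep j) =
    ⟨(T.getD j .zero).a, 2 * (T.getD j .zero).b, 0, -(T.getD j .zero).b⟩

theorem gen_of_table {parts : List (Int × Lin)} {T : List RootThree}
    (hv : ∀ p ∈ parts, p.2.Valid) (hT : CombTable parts T) :
    IsGeneralizedCharacter Q (tableFun T) := by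
  have key : ∃ F : Q → ℂ, IsGeneralizedCharacter Q F ∧ ∀ g, (combAt parts g).val = F g := by
    clear hT
    induction parts with
    | nil => exact ⟨0, IsGeneralizedCharacter.zero, fun g => by simp [combAt, Cyc.val]⟩
    | cons p l ih =>
      obtain ⟨F, hF, hFv⟩ := ih fun q hq => hv q (List.mem_cons_of_mem _ hq)
      obtain ⟨χ, hχ, -, hχv⟩ := p.2.exists_character (hv p List.mem_cons_self)
      refine ⟨(p.1 : ℂ) • χ + F, IsGeneralizedCharacter.add
        (IsGeneralizedCharacter.intCast_smul (isGeneralizedCharacter_of_isCharacter hχ) p.1) hF,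
        fun g => ?_⟩
      show (p.2.addInd p.1 g (combAt l g)).val = _
      rw [Lin.addInd_val, hFv]
      simp [hχv]
  obtain ⟨F, hF, hFv⟩ := key
  convert hF using 1
  funext x
  obtain ⟨hlt, hconj⟩ := kind_spec x
  have e := hT ⟨kind x, hlt⟩
  conv_rhs => rw [← hconj, IsGeneralizedCharacter.isClassFunction hF (rep (kind x)) (conjBy x),
    ← hFv, e]
  simp only [tableFun, valueAt, RootThree.val, Cyc.val]
  push_cast
  linear_combination -((T.getD (kind x) RootThree.zero).b : ℂ) * zeta_sqrt

/-- Exponents on the space. -/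
def evZero (_ : V3) : ZMod 12 := 0
@[inherit_doc evZero] def evOne (v : V3) : ZMod 12 := (4 * v.1.val : Nat)
@[inherit_doc evZero] def evTwo (v : V3) : ZMod 12 := (4 * (v.2.1.val + v.2.2.val) : Nat)
@[inherit_doc evZero] def evAll (v : V3) : ZMod 12 := (4 * (v.1.val + v.2.1.val + v.2.2.val) : Nat)

/-- The linear characters. -/
def linTriv : Lin := ⟨fun _ => true, evZero, fun _ => 0, transTriv⟩
@[inherit_doc linTriv] def linSgn : Lin := ⟨fun _ => true, evZero, fun m => cond m.w 6 0, transTriv⟩
@[inherit_doc linTriv] def linTwo : Lin :=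
  ⟨fun m => !m.w, evZero, fun m => (4 * m.r.val : Nat), transTwo⟩
@[inherit_doc linTriv] def linT1 : Lin :=
  ⟨fun m => decide (m.r = 0), evZero, fun m => cond m.s 6 0, transBlock⟩
@[inherit_doc linTriv] def linT2 : Lin :=
  ⟨fun m => decide (m.r = 0), evZero, fun m => cond (xor m.s m.w) 6 0, transBlock⟩
@[inherit_doc linTriv] def linS0 : Lin :=
  ⟨fun m => decide (m.r = 0) && !m.s, evOne, fun _ => 0, transSix⟩
@[inherit_doc linTriv] def linS1 : Lin :=
  ⟨fun m => decide (m.r = 0) && !m.s, evOne,
    fun m => cond m.w (cond m.t 9 3) (cond m.t 6 0), transSix⟩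
@[inherit_doc linTriv] def linQ0 : Lin :=
  ⟨fun m => decide (m.r = 0) && !m.t && (m.s == m.w), evTwo, fun _ => 0, transTwelve⟩
@[inherit_doc linTriv] def linZ0 : Lin :=
  ⟨fun m => !m.w && !m.s && !m.t, evAll, fun _ => 0, transEight⟩
@[inherit_doc linTriv] def linZ1 : Lin :=
  ⟨fun m => !m.w && !m.s && !m.t, evAll, fun m => (4 * m.r.val : Nat), transEight⟩

theorem valid_all : ∀ L ∈ [linTriv, linSgn, linTwo, linT1, linT2, linS0, linS1, linQ0, linZ0, linZ1],
    L.Valid := by
  simp only [List.forall_mem_cons, List.not_mem_nil, false_implies, implies_true, and_true]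
  refine ⟨?_, ?_, ?_, ?_, ?_, ?_, ?_, ?_, ?_, ?_⟩ <;> (unfold Lin.Valid; decide +kernel)

theorem gen_P : IsGeneralizedCharacter Q (tableFun tabP) :=
  gen_of_table (parts := [(1, linTriv), (1, linTwo), (1, linT1), (-1, linS0)])
    (fun p hp => valid_all p.2 (by fin_cases hp <;> simp)) (by unfold CombTable; decide +kernel)

theorem gen_B : IsGeneralizedCharacter Q (tableFun tabB) :=
  gen_of_table (parts := [(1, linTriv), (-1, linT2), (-1, linS0), (1, linZ1)])
    (fun p hp => valid_all p.2 (by fin_cases hp <;> simp)) (by unfold CombTable; decide +kernel)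

theorem gen_C : IsGeneralizedCharacter Q (tableFun tabC) :=
  gen_of_table (parts := [(1, linTriv), (1, linT2), (-1, linQ0), (1, linZ1)])
    (fun p hp => valid_all p.2 (by fin_cases hp <;> simp)) (by unfold CombTable; decide +kernel)

theorem gen_A : IsGeneralizedCharacter Q (tableFun tabA) :=
  gen_of_table (parts := [(1, linTriv), (1, linSgn), (1, linS1), (-1, linZ0)])
    (fun p hp => valid_all p.2 (by fin_cases hp <;> simp)) (by unfold CombTable; decide +kernel)

theorem gen_E : IsGeneralizedCharacter Q (tableFun tabE) :=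
  gen_of_table (parts := [(1, linTwo), (1, linS1), (-1, linZ1)])
    (fun p hp => valid_all p.2 (by fin_cases hp <;> simp)) (by unfold CombTable; decide +kernel)

end Cfsg.Agent.ThreeCubedSymFour
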