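import Cfsg.Agent.Lib.ThreeCubedSymFour.Algebra
import Cfsg.Agent.Lib.ThreeCubedSymFour.ModelChar
import Cfsg.Agent.Lib.ThreeCubedSymFour.Facts
import Cfsg.Agent.Lib.Char.ClassMult
import Cfsg.Agent.Lib.Char.Eigen
import Cfsg.Agent.Lib.Char.Linear

/-!
# A `3^3` with `3^3:S4` and small centralizers gives a normal `3^3:2^2` extension

* `Embedded`, `Embedded.of_closed`: strong closure suffices
* `Embedded.exists_normal`: a normal subgroup meeting the model in `3^3:2^2`
-/

set_option autoImplicit false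

namespace Cfsg.Agent.ThreeCubedSymFour

open Cfsg Cfsg.Agent.Char Cfsg.Agent.ThreeSquareDihedral
open scoped ComplexConjugate Pointwise

variable {G : Type*} [Group G]

/-- An embedding with controlled centralizers and fusion in the space. -/
structure Embedded (π : Q →* G) : Prop where
  inj : Function.Injective π
  cent : ∀ x : Q, x.right = 1 → x ≠ 1 → Subgroup.centralizer ({π x} : Set G) ≤ π.range
  plane_ti : ∀ {x y : Q}, x.right = 1 → x ≠ 1 → y.right = 1 → ∀ {g : G},
    π y = g * π x * g⁻¹ → g ∈ π.range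

variable {π : Q →* G}

theorem card_centralizer_of (hinj : Function.Injective π)
    (hcent : ∀ x : Q, x.right = 1 → x ≠ 1 → Subgroup.centralizer ({π x} : Set G) ≤ π.range) {x : Q} (hx : x.right = 1) (hx1 : x ≠ 1) :
    Nat.card (Subgroup.centralizer ({π x} : Set G)) =
      (Finset.univ.filter fun z : Q => z * x = x * z).card := by
  have : Nat.card {z : Q // z * x = x * z} = (Finset.univ.filter fun z : Q => z * x = x * z).card :=
    Nat.subtype_card _ fun z => by simp
  rw [← this]
  refine (Nat.card_congr (Equiv.ofBijective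
    (fun z : {z : Q // z * x = x * z} => (⟨π z, Subgroup.mem_centralizer_singleton_iff.2
      (by rw [← map_mul, ← map_mul, z.2])⟩ : Subgroup.centralizer ({π x} : Set G))) ⟨?_, ?_⟩)).symm
  · intro a b hab
    exact Subtype.ext (hinj (congrArg Subtype.val hab))
  · rintro ⟨g, hg⟩
    obtain ⟨z, rfl⟩ := hcent x hx hx1 hg
    exact ⟨⟨z, hinj (by rw [map_mul, map_mul]; exact Subgroup.mem_centralizer_singleton_iff.1 hg)⟩, rfl⟩

theorem mem_range_of_normalize [Finite G] (hinj : Function.Injective π)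
    (hcent : ∀ x : Q, x.right = 1 → x ≠ 1 → Subgroup.centralizer ({π x} : Set G) ≤ π.range) {g : G}
    (h : ∀ s : Q, s.right = 1 → ∃ y : Q, y.right = 1 ∧ π y = g * π s * g⁻¹) : g ∈ π.range := by
  obtain ⟨-, -, -, -, -, -, hj, hj1, -⟩ := facts_fixed
  obtain ⟨y, hy, hye⟩ := h jAxis hj
  have hy1 : y ≠ 1 := by
    intro h0
    rw [h0, map_one, eq_comm, mul_inv_eq_one, mul_eq_left] at hye
    exact hj1 (hinj (hye.trans (map_one π).symm))
  have hcard : Nat.card (Subgroup.centralizer ({π y} : Set G)) =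
      Nat.card (Subgroup.centralizer ({π jAxis} : Set G)) := by
    refine (Nat.card_congr (Equiv.ofBijective
      (fun c : Subgroup.centralizer ({π jAxis} : Set G) =>
        (⟨g * c * g⁻¹, Subgroup.mem_centralizer_singleton_iff.2 (by
          rw [hye]
          calc g * c * g⁻¹ * (g * π jAxis * g⁻¹) = g * ((c : G) * π jAxis) * g⁻¹ := by group
            _ = g * (π jAxis * c) * g⁻¹ := by rw [Subgroup.mem_centralizer_singleton_iff.1 c.2]
            _ = _ := by group)⟩ : Subgroup.centralizer ({π y} : Set G))) ⟨?_, ?_⟩)).symm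
    · intro a b hab
      exact Subtype.ext (by simpa using congrArg Subtype.val hab)
    · rintro ⟨c, hc⟩
      refine ⟨⟨g⁻¹ * c * g, Subgroup.mem_centralizer_singleton_iff.2 ?_⟩, Subtype.ext (by simp [mul_assoc])⟩
      have hc' := Subgroup.mem_centralizer_singleton_iff.1 hc
      rw [hye] at hc'
      calc g⁻¹ * c * g * π jAxis = g⁻¹ * (c * (g * π jAxis * g⁻¹)) * g := by group
        _ = g⁻¹ * (g * π jAxis * g⁻¹ * c) * g := by rw [hc']
        _ = _ := by group
  rw [card_centralizer_of hinj hcent hy hy1, card_centralizer_of hinj hcent hj hj1] at hcard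
  have hy' : y = SemidirectProduct.inl y.left := SemidirectProduct.ext rfl (by simpa using hy)
  rw [hy'] at hcard hye
  obtain ⟨z, hz⟩ := conj_of_centralizer y.left hcard
  have hm : (π z)⁻¹ * g ∈ π.range := by
    refine hcent jAxis hj hj1 (Subgroup.mem_centralizer_singleton_iff.2 ?_)
    have e : g * π jAxis * g⁻¹ = π z * π jAxis * (π z)⁻¹ := by
      rw [← hye, ← hz, map_mul, map_mul, map_inv]
    calc (π z)⁻¹ * g * π jAxis = (π z)⁻¹ * (g * π jAxis * g⁻¹) * g := by group
      _ = _ := by rw [e]; group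
  have := mul_mem (⟨z, rfl⟩ : π z ∈ π.range) hm
  rwa [mul_inv_cancel_left] at this

theorem Embedded.mem_range_of_normalize [Finite G] (E : Embedded π) {g : G}
    (h : ∀ s : Q, s.right = 1 → ∃ y : Q, y.right = 1 ∧ π y = g * π s * g⁻¹) : g ∈ π.range :=
  ThreeCubedSymFour.mem_range_of_normalize E.inj E.cent h

/-- A strongly closed space will do. -/
theorem Embedded.of_closed [Finite G] (hinj : Function.Injective π)
    (hcent : ∀ x : Q, x.right = 1 → x ≠ 1 → Subgroup.centralizer ({π x} : Set G) ≤ π.range)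
    (hcl : ∀ x : Q, x.right = 1 → ∀ g : G, g * π x * g⁻¹ ∈ π.range →
      ∃ y : Q, y.right = 1 ∧ π y = g * π x * g⁻¹) : Embedded π := by
  refine ⟨hinj, hcent, fun {x y} hx hx1 hy' {g} hy => ?_⟩
  have hy1 : y ≠ 1 := by
    intro h0
    rw [h0, map_one, eq_comm, mul_inv_eq_one, mul_eq_left] at hy
    exact hx1 (hinj (hy.trans (map_one π).symm))
  refine ThreeCubedSymFour.mem_range_of_normalize hinj hcent fun s hs => hcl s hs g ?_
  refine hcent y hy' hy1 (Subgroup.mem_centralizer_singleton_iff.2 ?_)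
  rw [hy]
  calc g * π s * g⁻¹ * (g * π x * g⁻¹) = g * π (s * x) * g⁻¹ := by rw [map_mul]; group
    _ = g * π (x * s) * g⁻¹ := by rw [comm_of_right s x hs hx]
    _ = _ := by rw [map_mul]; group

/-- The elements with a power in the space. -/
def IsSpecial (x : Q) : Prop :=
  ((x * x * (x * x)).right = 1 ∧ x * x * (x * x) ≠ 1) ∨ ((x * x * x).right = 1 ∧ x * x * x ≠ 1)

theorem Embedded.special_ti [Finite G] (E : Embedded π) {x y : Q} (hx : IsSpecial x)
    (h4 : y ^ 12 = 1 → (y * y * (y * y)).right = 1) {g : G}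
    (hy : π y = g * π x * g⁻¹) : ∃ z, π z = g ∧ y = z * x * z⁻¹ := by
  obtain ⟨z, rfl⟩ : g ∈ π.range := by
    have hxy : ∀ n, π (y ^ n) = g * π (x ^ n) * g⁻¹ := fun n => by rw [map_pow, map_pow, hy, conj_pow]
    rcases hx with ⟨h1, h2⟩ | ⟨h1, h2⟩
    · refine E.plane_ti h1 h2 (y := y * y * (y * y)) (h4 (E.inj ?_))
        (by simp only [map_mul, hy]; group)
      rw [hxy, show x ^ 12 = x * x * (x * x) * (x * x * (x * x)) * (x * x * (x * x)) by
        simp only [pow_succ, pow_zero, one_mul, mul_assoc], cube_of_right _ h1, map_one]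
      group
    · refine E.plane_ti h1 h2 (y := y * y * y) (cube_right y (E.inj ?_))
        (by simp only [map_mul, hy]; group)
      rw [hxy, show x ^ 9 = x * x * x * (x * x * x) * (x * x * x) by
        simp only [pow_succ, pow_zero, one_mul, mul_assoc], cube_of_right _ h1, map_one]
      group
  exact ⟨z, rfl, E.inj (by rw [hy]; simp)⟩

theorem Embedded.nine (E : Embedded π) {x : Q} {n : ℕ} (hn : π x ^ 3 ^ n = 1) :
    x * x * x * (x * x * x) * (x * x * x) = 1 := by
  have e1 : x ^ 3 ^ n = 1 := E.inj (by rw [map_pow, hn, map_one])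
  have h := pow_gcd_eq_one.2 ⟨e1, pow_thirty_six x⟩
  have hd : Nat.gcd (3 ^ n) 36 ∣ 9 := by
    have h1 : Nat.gcd (3 ^ n) 36 ∣ 9 * 4 := Nat.gcd_dvd_right _ _
    refine (Nat.Coprime.dvd_of_dvd_mul_right ?_ h1)
    exact Nat.Coprime.coprime_dvd_left (Nat.gcd_dvd_left _ _) (Nat.Coprime.pow_left n (by norm_num))
  have h9 : x ^ 9 = 1 := by
    obtain ⟨k, hk⟩ := hd
    rw [hk, pow_mul, h, one_pow]
  rw [← h9]
  simp only [pow_succ, pow_zero, one_mul, mul_assoc]

theorem Embedded.conj_into [Finite G] (E : Embedded π) {t j : Q} (hj : j.right = 1) (hj1 : j ≠ 1)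
    (hjt : j * t = t * j)
    (hC : ∀ x : Q, x * t = t * x → x * x * x * (x * x * x) * (x * x * x) = 1 → x.right = 1)
    {y : G} (hy : y * π t = π t * y) (hy3 : y ^ 3 = 1) :
    ∃ z : G, z * π t = π t * z ∧ ∃ x : Q, x.right = 1 ∧ π x = z * y * z⁻¹ := by
  have : Fact (Nat.Prime 3) := ⟨Nat.prime_three⟩
  set L := Subgroup.centralizer ({π t} : Set G)
  have htL : π j ∈ L := Subgroup.mem_centralizer_singleton_iff.2 (by rw [← map_mul, ← map_mul, hjt])
  have hyL : y ∈ L := Subgroup.mem_centralizer_singleton_iff.2 hy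
  have hp : ∀ a : L, a ^ 3 = 1 → IsPGroup 3 (Subgroup.zpowers a) := fun a ha => by
    intro x
    obtain ⟨i, hi⟩ := Subgroup.mem_zpowers_iff.1 x.2
    refine ⟨1, Subtype.ext ?_⟩
    rw [pow_one, Subgroup.coe_pow, ← hi, ← zpow_natCast, ← zpow_mul, mul_comm, zpow_mul,
      zpow_natCast, ha, one_zpow]
    rfl
  have hπj : (π j) ^ 3 = 1 := by
    rw [pow_succ, pow_two, ← map_mul, ← map_mul, cube_of_right j hj, map_one]
  obtain ⟨P, hP⟩ := (hp ⟨π j, htL⟩ (Subtype.ext (by simpa using hπj))).exists_le_sylow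
  obtain ⟨R, hR⟩ := (hp ⟨y, hyL⟩ (Subtype.ext (by simpa using hy3))).exists_le_sylow
  obtain ⟨z, hz⟩ := MulAction.exists_smul_eq L R P
  have hPG : IsPGroup 3 ((P : Subgroup L).map L.subtype) := P.isPGroup'.map _
  have hjP : π j ∈ (P : Subgroup L).map L.subtype := ⟨⟨π j, htL⟩, hP (Subgroup.mem_zpowers _), rfl⟩
  set PG := (P : Subgroup L).map L.subtype
  have hne : π j ≠ 1 := fun h => hj1 (E.inj (h.trans (map_one π).symm))
  have : Nontrivial PG := ⟨⟨⟨π j, hjP⟩, 1, fun h => hne (congrArg Subtype.val h)⟩⟩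
  have := IsPGroup.center_nontrivial hPG
  obtain ⟨⟨c, hc⟩, hc1⟩ := exists_ne (1 : Subgroup.center PG)
  have hcc : ∀ x ∈ PG, x * (c : G) = c * x := fun x hx =>
    congrArg Subtype.val (Subgroup.mem_center_iff.1 hc ⟨x, hx⟩)
  have hpow : ∀ x ∈ PG, ∃ n, x ^ 3 ^ n = 1 := fun x hx => by
    obtain ⟨n, hn⟩ := hPG ⟨x, hx⟩
    exact ⟨n, by simpa using congrArg Subtype.val hn⟩
  have hinto : ∀ x ∈ PG, x ∈ π.range → ∃ x' : Q, x'.right = 1 ∧ π x' = x := by
    rintro x hx ⟨x', rfl⟩
    obtain ⟨n, hn⟩ := hpow _ hx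
    refine ⟨x', hC x' (E.inj ?_) (E.nine hn), rfl⟩
    obtain ⟨w, -, hw⟩ := hx
    rw [map_mul, map_mul, ← hw]
    exact Subgroup.mem_centralizer_singleton_iff.1 w.2
  obtain ⟨c', hc', hc'e⟩ := hinto _ c.2
    (E.cent j hj hj1 (Subgroup.mem_centralizer_singleton_iff.2 (hcc _ hjP).symm))
  have hc'1 : c' ≠ 1 := fun h => hc1 (Subtype.ext (Subtype.ext (by rw [← hc'e, h, map_one]; rfl)))
  refine ⟨z, Subgroup.mem_centralizer_singleton_iff.1 z.2, ?_⟩
  have hmem : z * ⟨y, hyL⟩ * z⁻¹ ∈ (P : Subgroup L) := by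
    rw [← hz]
    exact Subgroup.smul_mem_pointwise_smul _ (MulAut.conj z) _ (hR (Subgroup.mem_zpowers _))
  have hPGm : (z : G) * y * (z : G)⁻¹ ∈ PG := ⟨_, hmem, rfl⟩
  exact hinto _ hPGm
    (E.cent c' hc' hc'1 (Subgroup.mem_centralizer_singleton_iff.2 (by rw [hc'e]; exact hcc _ hPGm)))

theorem Embedded.not_conj [Finite G] (E : Embedded π) : ¬ IsConj (π vAxis) (π wSwap) := by
  intro h
  obtain ⟨g, hg⟩ := isConj_iff.1 h
  obtain ⟨hv, hv1, hvc, hw, hw1, hwc, -⟩ := facts_fixed
  obtain ⟨z, hz, x, hxr, hxe⟩ := E.conj_into hw hw1 hwc plane_in_centralizer_w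
    (y := g * π jV * g⁻¹) (by
      rw [← hg]
      calc g * π jV * g⁻¹ * (g * π vAxis * g⁻¹) = g * π (jV * vAxis) * g⁻¹ := by rw [map_mul]; group
        _ = g * π (vAxis * jV) * g⁻¹ := by rw [hvc]
        _ = _ := by rw [map_mul]; group)
    (by rw [conj_pow, pow_succ, pow_two, ← map_mul, ← map_mul, cube_of_right jV hv, map_one]; group)
  obtain ⟨w, hw'⟩ := E.plane_ti hv hv1 (y := x) hxr (g := z * g) (by rw [hxe]; group)
  refine not_conj_vw w (E.inj ?_)
  rw [map_mul, map_mul, map_inv, hw',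
    show z * g * π vAxis * (z * g)⁻¹ = z * (g * π vAxis * g⁻¹) * z⁻¹ by group, hg, hz]
  group

theorem Embedded.isConj_v [Finite G] (E : Embedded π) (x : Q) :
    IsConj (π vAxis) (π x) ↔ kind x = 4 := by
  obtain ⟨-, -, -, -, -, -, -, -, v2, v1, -, -, -, -⟩ := facts_fixed
  constructor
  · intro h
    obtain ⟨g, hg⟩ := isConj_iff.1 h
    have hx2 : x * x = 1 := E.inj (by
      rw [map_mul, ← hg, show g * π vAxis * g⁻¹ * (g * π vAxis * g⁻¹) =
        g * (π vAxis * π vAxis) * g⁻¹ by group, ← map_mul, v2, map_one]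
      group)
    have hx1 : x ≠ 1 := fun h0 => v1 (E.inj (by
      rw [h0, map_one, mul_inv_eq_one, mul_eq_left] at hg; rw [hg, map_one]))
    refine (invol_kind x hx2 hx1).resolve_right fun k => E.not_conj (h.trans ?_)
    obtain ⟨-, hc⟩ := kind_spec x
    rw [k] at hc
    exact (isConj_iff.2 ⟨π (conjBy x), by rw [← map_inv, ← map_mul, ← map_mul]; exact congrArg π hc⟩ :
      IsConj (π wSwap) (π x)).symm
  · intro k
    obtain ⟨-, hc⟩ := kind_spec x
    rw [k] at hc
    exact isConj_iff.2 ⟨π (conjBy x), by rw [← map_inv, ← map_mul, ← map_mul]; exact congrArg π hc⟩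

theorem Embedded.isConj_w [Finite G] (E : Embedded π) (x : Q) :
    IsConj (π wSwap) (π x) ↔ kind x = 9 := by
  obtain ⟨-, -, -, -, -, -, -, -, -, -, v2, v1, -, -⟩ := facts_fixed
  constructor
  · intro h
    obtain ⟨g, hg⟩ := isConj_iff.1 h
    have hx2 : x * x = 1 := E.inj (by
      rw [map_mul, ← hg, show g * π wSwap * g⁻¹ * (g * π wSwap * g⁻¹) =
        g * (π wSwap * π wSwap) * g⁻¹ by group, ← map_mul, v2, map_one]
      group)
    have hx1 : x ≠ 1 := fun h0 => v1 (E.inj (by
      rw [h0, map_one, mul_inv_eq_one, mul_eq_left] at hg; rw [hg, map_one]))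
    exact (invol_kind x hx2 hx1).resolve_left fun k => E.not_conj (((E.isConj_v x).2 k).trans h.symm)
  · intro k
    obtain ⟨-, hc⟩ := kind_spec x
    rw [k] at hc
    exact isConj_iff.2 ⟨π (conjBy x), by rw [← map_inv, ← map_mul, ← map_mul]; exact congrArg π hc⟩

/-- A table usable as a virtual character on the special elements. -/
structure Tab (T : List RootThree) : Prop where
  supp : ∀ x, valueAt T x ≠ .zero → IsSpecial x
  gen : IsGeneralizedCharacter Q (tableFun T)
  four : ∀ x, valueAt T x ≠ .zero → x ^ 12 = 1 → (x * x * (x * x)).right = 1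

theorem tab_P : Tab tabP := ⟨fun x h => special_support x (by simp [h]), gen_P,
  fun x h => fourth_right x (by simp [h])⟩
theorem tab_B : Tab tabB := ⟨fun x h => special_support x (by simp [h]), gen_B,
  fun x h => fourth_right x (by simp [h])⟩
theorem tab_C : Tab tabC := ⟨fun x h => special_support x (by simp [h]), gen_C,
  fun x h => fourth_right x (by simp [h])⟩
theorem tab_A : Tab tabA := ⟨fun x h => special_support x (by simp [h]), gen_A,
  fun x h => fourth_right x (by simp [h])⟩
theorem tab_E : Tab tabE := ⟨fun x h => special_support x (by simp [h]), gen_E,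
  fun x h => fourth_right x (by simp [h])⟩

theorem list_foldr_val (l : List RootThree) :
    (l.foldr RootThree.add RootThree.zero).val = (l.map RootThree.val).sum := by
  induction l with
  | nil => simp [RootThree.val_zero]
  | cons a l ih => simp [RootThree.val_add, ih]

theorem inner_eq (T T' : List RootThree) :
    (innerTotal T T').val = ∑ x : Q, tableFun T x * tableFun T' x := by
  classical
  rw [innerTotal, list_foldr_val, List.map_map]
  have : ∀ l : ℕ → ℂ, ((List.range 14).map l).sum = ∑ j ∈ Finset.range 14, l j := fun l => by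
    rw [← List.toFinset_range, List.sum_toFinset _ List.nodup_range]
  rw [this, ← Finset.sum_fiberwise_of_maps_to (g := kind) (t := Finset.range 14)
    fun x _ => Finset.mem_range.2 (kind_spec x).1]
  refine Finset.sum_congr rfl fun j hj => ?_
  have hconst : ∀ x ∈ Finset.univ.filter (fun x : Q => kind x = j),
      tableFun T x * tableFun T' x = (T.getD j .zero).val * (T'.getD j .zero).val := by
    intro x hx
    simp only [tableFun, valueAt, (Finset.mem_filter.1 hx).2]
  rw [Finset.sum_congr rfl hconst, Finset.sum_const, nsmul_eq_mul, Function.comp_apply,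
    RootThree.val_mul, RootThree.val_mul]
  have hc := kind_card ⟨j, Finset.mem_range.1 hj⟩
  simp only at hc
  simp only [RootThree.val, ← hc]
  push_cast
  ring

theorem pair_eq (j k : ℕ) (T : List RootThree) :
    (pairTotal j k T).val = ∑ x ∈ Finset.univ.filter (fun x : Q => kind x = j),
      ∑ y ∈ Finset.univ.filter (fun y : Q => kind y = k), tableFun T (x * y) := by
  classical
  have henum : ∀ (i : ℕ) (f : Q → ℂ), ((classCodes i).map fun a => f (decode a)).sum =
      ∑ x ∈ Finset.univ.filter (fun x : Q => kind x = i), f x := by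
    intro i f
    have hnd : (classCodes i).Nodup := List.nodup_range.filter _
    rw [← List.sum_toFinset _ hnd]
    have hcode : ∀ a, a < 648 → (kindTable.getD (a / 27) []).getD (a % 27) 0 = kind (decode a) := by
      intro a ha
      obtain ⟨b, hb, hbe, hbk⟩ := classCodes_spec (decode a)
      have e1 := decode_inj ⟨a, ha⟩
      have e2 := decode_inj ⟨b, hb⟩
      simp only [hbe] at e2
      simp only at e1
      rw [← hbk, show b = a from e2.symm.trans e1]
    refine Finset.sum_bij (fun a _ => decode a) ?_ ?_ ?_ (fun _ _ => rfl)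
    · intro a ha
      simp only [classCodes, List.mem_toFinset, List.mem_filter, List.mem_range, beq_iff_eq] at ha
      rw [Finset.mem_filter]
      exact ⟨Finset.mem_univ _, (hcode a ha.1).symm.trans ha.2⟩
    · intro a ha b hb e
      simp only [classCodes, List.mem_toFinset, List.mem_filter, List.mem_range] at ha hb
      have e1 := decode_inj ⟨a, ha.1⟩
      have e2 := decode_inj ⟨b, hb.1⟩
      simp only at e1 e2
      rw [e] at e1
      exact e1.symm.trans e2
    · intro x hx
      obtain ⟨b, hb, hbe, hbk⟩ := classCodes_spec x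
      refine ⟨b, ?_, hbe⟩
      simp only [Finset.mem_filter, Finset.mem_univ, true_and] at hx
      simp only [classCodes, List.mem_toFinset, List.mem_filter, List.mem_range, beq_iff_eq]
      exact ⟨hb, hbk.trans hx⟩
  have hflat : ∀ (l : List ℕ) (F : ℕ → List RootThree), ((l.flatMap F).map RootThree.val).sum =
      (l.map fun a => ((F a).map RootThree.val).sum).sum := by
    intro l F
    induction l with
    | nil => simp
    | cons a l ih => simp [List.flatMap_cons, ih]
  rw [pairTotal, list_foldr_val, hflat, ← henum j (fun x => ∑ y ∈ Finset.univ.filter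
    (fun y : Q => kind y = k), tableFun T (x * y))]
  refine congrArg List.sum (List.map_congr_left fun a _ => ?_)
  rw [List.map_map, ← henum k]
  refine congrArg List.sum (List.map_congr_left fun b _ => ?_)
  simp only [Function.comp_apply, tableFun]

/-- The model as a subgroup. -/
noncomputable def Embedded.equivRange (E : Embedded π) : Q ≃* π.range := MonoidHom.ofInjective E.inj

theorem Embedded.coe_equivRange (E : Embedded π) (x : Q) : (E.equivRange x : G) = π x := rfl

theorem Embedded.sum_range [Fintype π.range] (E : Embedded π) (f : π.range → ℂ) :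
    ∑ n, f n = ∑ x : Q, f (E.equivRange x) :=
  (Fintype.sum_equiv E.equivRange.toEquiv _ _ fun _ => rfl).symm

theorem card_Q : Fintype.card Q = 648 := by decide +kernel

theorem Embedded.card_range (E : Embedded π) : Nat.card π.range = 648 := by
  rw [← Nat.card_congr E.equivRange.toEquiv, Nat.card_eq_fintype_card, card_Q]

variable [Fintype G]

/-- The induced virtual character. -/
noncomputable def Embedded.lift (E : Embedded π) (T : List RootThree) : G → ℂ :=
  indFun π.range (fun n => tableFun T (E.equivRange.symm n))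

theorem Embedded.lift_gen (E : Embedded π) {T : List RootThree} (hT : Tab T) :
    IsGeneralizedCharacter G (E.lift T) :=
  IsGeneralizedCharacter.indFun (IsGeneralizedCharacter.comp_hom hT.gen E.equivRange.symm.toMonoidHom)

theorem Embedded.lift_special (E : Embedded π) {T : List RootThree} (hT : Tab T) {x : Q}
    (hx : IsSpecial x) : E.lift T (π x) = tableFun T x := by
  classical
  unfold Embedded.lift indFun
  rw [← Finset.sum_filter_add_sum_filter_not Finset.univ (· ∈ π.range),
    Finset.sum_eq_zero (s := Finset.univ.filter fun c => ¬ c ∈ π.range) fun c hc => ?_, add_zero,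
    Finset.sum_subtype (p := (· ∈ π.range)) _ (fun c => by simp)
      (fun c => extendByZero π.range (fun n => tableFun T (E.equivRange.symm n)) (c⁻¹ * π x * c)),
    E.sum_range]
  · rw [Finset.sum_congr rfl (g := fun _ => tableFun T x) fun z _ => ?_, Finset.sum_const,
      Finset.card_univ, nsmul_eq_mul, E.card_range]
    · rw [card_Q]; push_cast; ring
    · rw [E.coe_equivRange, ← map_inv, ← map_mul, ← map_mul, ← E.coe_equivRange, extendByZero_coe,
        MulEquiv.symm_apply_apply]
      have := IsGeneralizedCharacter.isClassFunction hT.gen x z⁻¹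
      rw [inv_inv] at this
      rw [this]
  · rw [extendByZero_eq]
    split_ifs with hmem
    · obtain ⟨y, hy⟩ := hmem
      have hys : E.equivRange.symm ⟨_, ⟨y, hy⟩⟩ = y := E.inj (by
        rw [← E.coe_equivRange, MulEquiv.apply_symm_apply]; exact hy.symm)
      by_contra h0
      have hne : valueAt T y ≠ .zero := fun e => h0 (by rw [hys]; simp [tableFun, e, RootThree.val_zero])
      obtain ⟨z, hz, -⟩ := E.special_ti hx (hT.four y hne) (g := c⁻¹) (by rw [hy]; group)
      exact (Finset.mem_filter.1 hc).2 (inv_mem_iff.1 ⟨z, hz⟩)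
    · rfl

theorem Embedded.inner_lift (E : Embedded π) (T : List RootThree) {χ : G → ℂ}
    (hχ : IsClassFunction G χ) :
    classInner (E.lift T) χ = (648 : ℂ)⁻¹ * ∑ x : Q, tableFun T x * conj (χ (π x)) := by
  have := Fintype.ofFinite π.range
  rw [Embedded.lift, frobenius_reciprocity π.range _ hχ, classInner, E.card_range, E.sum_range]
  simp [E.coe_equivRange]

theorem Embedded.inner_lift_lift (E : Embedded π) {T T' : List RootThree} (hT : Tab T)
    (hT' : Tab T') :
    classInner (E.lift T) (E.lift T') = (648 : ℂ)⁻¹ * (innerTotal T T').val := by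
  rw [E.inner_lift T (χ := E.lift T') (indFun_isClassFunction _ _), inner_eq]
  congr 1
  refine Finset.sum_congr rfl fun x _ => ?_
  by_cases h : valueAt T x = .zero
  · simp [tableFun, h, RootThree.val_zero]
  · rw [E.lift_special hT' (hT.supp x h)]
    simp only [tableFun, RootThree.conj_val]

theorem Embedded.lift_invol (E : Embedded π) {T : List RootThree} (hT : Tab T) {g : G}
    (hg : g * g = 1) : E.lift T g = 0 := by
  unfold Embedded.lift indFun
  rw [Finset.sum_eq_zero fun c _ => ?_, mul_zero]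
  rw [extendByZero_eq]
  split_ifs with hc
  · set y := E.equivRange.symm ⟨c⁻¹ * g * c, hc⟩
    by_contra h0
    have hy : π y = c⁻¹ * g * c := by rw [← E.coe_equivRange]; simp [y]
    have hyy : y * y = 1 := E.inj (by
      rw [map_mul, hy, show c⁻¹ * g * c * (c⁻¹ * g * c) = c⁻¹ * (g * g) * c by group, hg, map_one]
      group)
    have hne : valueAt T y ≠ .zero := fun e => h0 (by simp [tableFun, e, RootThree.val_zero])
    rcases hT.supp y hne with ⟨-, h2⟩ | ⟨h1, h2⟩
    · exact h2 (by rw [hyy, one_mul])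
    · rw [hyy, one_mul] at h1 h2
      have h3 := cube_of_right y h1
      rw [hyy, one_mul] at h3
      exact h2 h3
  · rfl

open scoped Classical in
theorem Embedded.card_pairs (E : Embedded π) {a b : Q} (ha : a * a = 1) (hb : b * b = 1) {x : Q}
    (hx : IsSpecial x) (h4 : x ^ 12 = 1 → (x * x * (x * x)).right = 1) :
    Nat.card {p : G × G // IsConj (π a) p.1 ∧ IsConj (π b) p.2 ∧ p.1 * p.2 = π x} =
      Nat.card {p : Q × Q // IsConj (π a) (π p.1) ∧ IsConj (π b) (π p.2) ∧ p.1 * p.2 = x} := by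
  refine (Nat.card_congr (Equiv.ofBijective
    (fun p => ⟨(π p.1.1, π p.1.2), p.2.1, p.2.2.1, by rw [← map_mul, p.2.2.2]⟩) ⟨?_, ?_⟩)).symm
  · intro p p' h
    have h' := congrArg Subtype.val h
    simp only [Prod.mk.injEq] at h'
    exact Subtype.ext (Prod.ext (E.inj h'.1) (E.inj h'.2))
  · rintro ⟨⟨u, w⟩, hu, hw, huw⟩
    have sq : ∀ {c : Q}, c * c = 1 → ∀ {v : G}, IsConj (π c) v → v * v = 1 := by
      intro c hc v hv
      obtain ⟨g, rfl⟩ := isConj_iff.1 hv
      rw [show g * π c * g⁻¹ * (g * π c * g⁻¹) = g * (π c * π c) * g⁻¹ by group, ← map_mul, hc,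
        map_one]
      group
    have hinv : u * π x * u⁻¹ = π x⁻¹ := by
      simp only at huw
      rw [map_inv, ← huw, ← mul_assoc, sq ha hu, one_mul, mul_inv_rev,
        inv_eq_of_mul_eq_one_right (sq hb hw)]
    have h4' : x⁻¹ ^ 12 = 1 → (x⁻¹ * x⁻¹ * (x⁻¹ * x⁻¹)).right = 1 := fun h => by
      rw [inv_pow, inv_eq_one] at h
      rw [show x⁻¹ * x⁻¹ * (x⁻¹ * x⁻¹) = (x * x * (x * x))⁻¹ by group, SemidirectProduct.inv_right,
        h4 h, inv_one]
    obtain ⟨z, hz, -⟩ := E.special_ti hx h4' hinv.symm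
    have hw' : π (z⁻¹ * x) = w := by rw [map_mul, map_inv, hz, ← huw]; group
    exact ⟨⟨(z, z⁻¹ * x), hz ▸ hu, hw' ▸ hw, mul_inv_cancel_left z x⟩,
      Subtype.ext (Prod.ext hz hw')⟩

open scoped Classical in
/-- The class multiplication identity in the model. -/
theorem Embedded.moment (E : Embedded π) [Fintype (IrrCharacter G)] {T : List RootThree} (hT : Tab T)
    {m : IrrCharacter G → ℤ} (hm : ∀ χ : IrrCharacter G, classInner (E.lift T) (χ : G → ℂ) = m χ)
    {a b : Q} (ha : a * a = 1) (hb : b * b = 1) {j k : ℕ}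
    (hU : ∀ x, IsConj (π a) (π x) ↔ kind x = j) (hW : ∀ x, IsConj (π b) (π x) ↔ kind x = k) :
    (Nat.card {x : G // IsConj (π a) x} : ℂ) * (Nat.card {x : G // IsConj (π b) x} : ℂ) *
      ∑ χ : IrrCharacter G, (m χ : ℂ) * ((χ : G → ℂ) (π a) * (χ : G → ℂ) (π b) / (χ : G → ℂ) 1) =
      (Nat.card G : ℂ) / 648 * (pairTotal j k T).val := by
  set K := (Nat.card {x : G // IsConj (π a) x} : ℂ) * (Nat.card {x : G // IsConj (π b) x} : ℂ)
  have hG : (Nat.card G : ℂ) ≠ 0 := Nat.cast_ne_zero.2 Nat.card_pos.ne'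
  have h1 : ∀ x, tableFun T x *
      (Nat.card {p : G × G // IsConj (π a) p.1 ∧ IsConj (π b) p.2 ∧ p.1 * p.2 = π x} : ℂ) =
      ∑ p : Q × Q, if kind p.1 = j then (if kind p.2 = k then
        (if p.1 * p.2 = x then tableFun T x else 0) else 0) else 0 := by
    intro x
    by_cases h : valueAt T x = .zero
    · simp [tableFun, h, RootThree.val_zero]
    · rw [E.card_pairs ha hb (hT.supp x h) (hT.four x h), Nat.card_eq_fintype_card, Fintype.card_subtype,
        ← Finset.sum_boole, Finset.mul_sum]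
      refine Finset.sum_congr rfl fun p _ => ?_
      by_cases hu : kind p.1 = j <;> by_cases hw : kind p.2 = k <;>
        simp [hU, hW, hu, hw, -isConj_iff]
  have h2 : ∑ x, tableFun T x *
      (Nat.card {p : G × G // IsConj (π a) p.1 ∧ IsConj (π b) p.2 ∧ p.1 * p.2 = π x} : ℂ) =
      (pairTotal j k T).val := by
    rw [Finset.sum_congr rfl fun x _ => h1 x, Finset.sum_comm, Fintype.sum_prod_type, pair_eq,
      Finset.sum_filter]
    refine Finset.sum_congr rfl fun u _ => ?_
    by_cases hu : kind u = j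
    · simp only [hu, if_true]
      rw [Finset.sum_filter]
      refine Finset.sum_congr rfl fun w _ => ?_
      by_cases hw : kind w = k
      · simp only [hw, if_true]
        rw [Finset.sum_ite_eq]; simp
      · simp [hw]
    · simp [hu]
  simp only [class_mult_formula] at h2
  have h3 : ∀ χ : IrrCharacter G, ∑ x, tableFun T x * conj ((χ : G → ℂ) (π x)) = 648 * (m χ : ℂ) := by
    intro χ
    rw [← hm χ, E.inner_lift T (IsIrrCharacter.isClassFunction χ.2)]
    ring
  have h4 : ∑ x, tableFun T x * (K / (Nat.card G : ℂ) * ∑ χ : IrrCharacter G,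
      (χ : G → ℂ) (π a) * (χ : G → ℂ) (π b) * conj ((χ : G → ℂ) (π x)) / (χ : G → ℂ) 1) =
      K / (Nat.card G : ℂ) * ∑ χ : IrrCharacter G,
        (χ : G → ℂ) (π a) * (χ : G → ℂ) (π b) / (χ : G → ℂ) 1 * (648 * (m χ : ℂ)) := by
    simp only [← h3, Finset.mul_sum]
    rw [Finset.sum_comm]
    exact Finset.sum_congr rfl fun χ _ => Finset.sum_congr rfl fun x _ => by ring
  rw [h4] at h2
  rw [← h2, Finset.mul_sum, Finset.mul_sum, Finset.mul_sum]
  refine Finset.sum_congr rfl fun χ _ => ?_
  field_simp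

theorem exists_int_of_involution {χ : G → ℂ} (hχ : IsCharacter G χ) {g : G} (hg : g * g = 1) :
    ∃ k : ℤ, χ g = k := by
  classical
  obtain ⟨n, ρ, rfl⟩ := hχ
  obtain ⟨b, μ, hμ, hroot⟩ := exists_eigenbasis ρ g
  rw [character_eq_sum_eigenvalues ρ g b μ hμ]
  refine ⟨∑ i, if μ i = 1 then 1 else -1, ?_⟩
  rw [Int.cast_sum]
  refine Finset.sum_congr rfl fun i _ => ?_
  have hd : orderOf g ∣ 2 := orderOf_dvd_of_pow_eq_one (by rw [pow_two, hg])
  obtain ⟨k, hk⟩ := hd
  have : μ i ^ 2 = 1 := by rw [hk, pow_mul, hroot, one_pow]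
  rcases sq_eq_one_iff.1 this with e | e <;> rw [e] <;> norm_num

theorem tableSums :
    (∑ x ∈ Finset.univ.filter (fun x : Q => x.right.w = true), (valueAt tabP x).a = 324) ∧
    (∑ x ∈ Finset.univ.filter (fun x : Q => x.right.w = true), (valueAt tabB x).a = 324) ∧
    (∑ x ∈ Finset.univ.filter (fun x : Q => x.right.w = true), (valueAt tabE x).a = 0) ∧
    (∑ x ∈ Finset.univ.filter (fun x : Q => x.right.w = true), (valueAt tabP x).b = 0) ∧
    (∑ x ∈ Finset.univ.filter (fun x : Q => x.right.w = true), (valueAt tabB x).b = 0) ∧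
    (∑ x ∈ Finset.univ.filter (fun x : Q => x.right.w = true), (valueAt tabE x).b = 0) := by
  decide +kernel

theorem table_vals : ∀ x : Q, valueAt tabP x = .zero ∧ valueAt tabB x = .zero ∨
    (kind x = 1 ∨ kind x = 2 ∨ kind x = 3 ∨ kind x = 5 ∨ kind x = 13 ∨ kind x = 7 ∨ kind x = 8) := by
  decide +kernel

open scoped Classical in
/-- A normal subgroup meeting the model in `3^3:2^2`. -/
theorem Embedded.exists_normal (E : Embedded π) :
    ∃ N : Subgroup G, N.Normal ∧ ∀ x : Q, π x ∈ N ↔ x ∈ smallSub := by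
  have := Fintype.ofFinite (IrrCharacter G)
  let o : IrrCharacter G := ⟨1, isIrrCharacter_one⟩
  choose d hd0 hd using fun χ : IrrCharacter G => IsIrrCharacter.exists_degree χ.2
  have hdpos : ∀ χ, d χ ≠ 0 := fun χ => (hd0 χ).ne'
  have hdC : ∀ χ, (d χ : ℂ) ≠ 0 := fun χ => Nat.cast_ne_zero.2 (hdpos χ)
  have hdo : d o = 1 := by
    have := hd o
    rw [show ((o : IrrCharacter G) : G → ℂ) 1 = 1 from rfl] at this
    exact_mod_cast this.symm
  obtain ⟨-, -, -, -, -, -, -, -, v2, -, w2, -, -, -⟩ := facts_fixed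
  choose ka hka using fun χ : IrrCharacter G =>
    exists_int_of_involution (IsIrrCharacter.isCharacter χ.2) (g := π vAxis)
      (by rw [← map_mul, v2, map_one])
  choose kb hkb using fun χ : IrrCharacter G =>
    exists_int_of_involution (IsIrrCharacter.isCharacter χ.2) (g := π wSwap)
      (by rw [← map_mul, w2, map_one])
  set cv : ℕ := Nat.card {x : G // IsConj (π vAxis) x} with hcv
  set cw : ℕ := Nat.card {x : G // IsConj (π wSwap) x} with hcw
  let xx : IrrCharacter G → ℚ := fun χ => (cv : ℚ) * ((ka χ : ℚ) / (d χ : ℚ) - 1)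
  let yy : IrrCharacter G → ℚ := fun χ => (cw : ℚ) * ((kb χ : ℚ) / (d χ : ℚ) - 1)
  have hxx : ∀ χ, (xx χ : ℂ) = (cv : ℂ) * ((χ : G → ℂ) (π vAxis) / (d χ : ℂ) - 1) := fun χ => by
    rw [hka χ]; simp [xx]
  have hyy : ∀ χ, (yy χ : ℂ) = (cw : ℂ) * ((χ : G → ℂ) (π wSwap) / (d χ : ℂ) - 1) := fun χ => by
    rw [hkb χ]; simp [yy]
  have hcoef : ∀ {T : List RootThree}, Tab T → ∃ m : IrrCharacter G → ℤ,
      E.lift T = ∑ χ : IrrCharacter G, (m χ : ℂ) • (χ : G → ℂ) ∧
      ∀ χ : IrrCharacter G, classInner (E.lift T) (χ : G → ℂ) = m χ := fun hT => by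
    obtain ⟨m, h1, h2, -⟩ := IsGeneralizedCharacter.exists_coeffs (E.lift_gen hT)
    exact ⟨m, h1, h2⟩
  obtain ⟨mP, eP, iP⟩ := hcoef tab_P
  obtain ⟨mB, eB, iB⟩ := hcoef tab_B
  obtain ⟨mC, eC, iC⟩ := hcoef tab_C
  obtain ⟨mA, eA, iA⟩ := hcoef tab_A
  obtain ⟨mE, eE, iE⟩ := hcoef tab_E
  have hinner : ∀ {T T' : List RootThree} {m m' : IrrCharacter G → ℤ}, Tab T → Tab T' →
      E.lift T = ∑ χ : IrrCharacter G, (m χ : ℂ) • (χ : G → ℂ) →
      (∀ χ : IrrCharacter G, classInner (E.lift T') (χ : G → ℂ) = m' χ) →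
      ∀ c : ℤ, innerTotal T T' = ⟨648 * c, 0⟩ → ∑ χ, m χ * m' χ = c := by
    intro T T' m m' hT hT' he hi' c hc
    have h := E.inner_lift_lift hT hT'
    rw [hc, he, classInner_sum_left] at h
    have : ∀ χ : IrrCharacter G, classInner ((m χ : ℂ) • (χ : G → ℂ)) (E.lift T') =
        (m χ : ℂ) * (m' χ : ℂ) := fun χ => by
      rw [classInner_smul_left, ← classInner_conj_symm, hi', map_intCast]
    rw [Finset.sum_congr rfl fun χ _ => this χ] at h
    have h' : ((∑ χ, m χ * m' χ : ℤ) : ℂ) = (c : ℂ) := by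
      push_cast
      rw [h, RootThree.val]; push_cast; ring
    exact_mod_cast h'
  have htriv : ∀ {T : List RootThree} {m : IrrCharacter G → ℤ},
      (∀ χ : IrrCharacter G, classInner (E.lift T) (χ : G → ℂ) = m χ) →
      ∀ c : ℤ, innerTotal T tabOne = ⟨648 * c, 0⟩ → m o = c := by
    intro T m hi c hc
    have h := hi o
    rw [E.inner_lift T (IsIrrCharacter.isClassFunction o.2)] at h
    have e : ∀ x : Q, tableFun T x * conj ((o : G → ℂ) (π x)) = tableFun T x * tableFun tabOne x := by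
      intro x
      have : tableFun tabOne x = 1 := by
        have e : valueAt tabOne x = ⟨1, 0⟩ := by
          rw [valueAt, tabOne, List.getD_eq_getElem _ _ (by simpa using (kind_spec x).1),
            List.getElem_replicate]
        simp [tableFun, e, RootThree.val]
      simp [this, o]
    rw [Finset.sum_congr rfl fun x _ => e x, ← inner_eq, hc] at h
    have h' : ((m o : ℤ) : ℂ) = (c : ℂ) := by rw [← h, RootThree.val]; push_cast; ring
    exact_mod_cast h'
  have hmom : ∀ {T : List RootThree} {m : IrrCharacter G → ℤ}, Tab T →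
      E.lift T = ∑ χ : IrrCharacter G, (m χ : ℂ) • (χ : G → ℂ) →
      (∀ χ : IrrCharacter G, classInner (E.lift T) (χ : G → ℂ) = m χ) →
      (∑ χ, m χ * (d χ : ℤ) = 0) ∧
      (∑ χ, (m χ : ℂ) * (d χ : ℂ) * (xx χ : ℂ) = 0) ∧ (∑ χ, (m χ : ℂ) * (d χ : ℂ) * (yy χ : ℂ) = 0) ∧
      (∑ χ, (m χ : ℂ) * (d χ : ℂ) * ((xx χ : ℂ) * (xx χ : ℂ)) = (Nat.card G : ℂ) / 648 * (pairTotal 4 4 T).val) ∧
      (∑ χ, (m χ : ℂ) * (d χ : ℂ) * ((xx χ : ℂ) * (yy χ : ℂ)) = (Nat.card G : ℂ) / 648 * (pairTotal 4 9 T).val) ∧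
      (∑ χ, (m χ : ℂ) * (d χ : ℂ) * ((yy χ : ℂ) * (yy χ : ℂ)) = (Nat.card G : ℂ) / 648 * (pairTotal 9 9 T).val) := by
    intro T m hT he hi
    have hval : ∀ g, ∑ χ : IrrCharacter G, (m χ : ℂ) * (χ : G → ℂ) g = E.lift T g := fun g => by
      rw [he]; simp [Finset.sum_apply]
    have hdeg : ∑ χ : IrrCharacter G, (m χ : ℂ) * (d χ : ℂ) = 0 := by
      have := hval 1
      rw [E.lift_invol hT (one_mul 1)] at this
      rw [← this]
      exact Finset.sum_congr rfl fun χ _ => by rw [hd χ]
    have hone : ∀ c : Q, c * c = 1 → ∀ cl : ℂ,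
        ∑ χ : IrrCharacter G, (m χ : ℂ) * (d χ : ℂ) * (cl * ((χ : G → ℂ) (π c) / (d χ : ℂ) - 1)) = 0 := by
      intro c hc cl
      have hlin : ∑ χ : IrrCharacter G, (m χ : ℂ) * (χ : G → ℂ) (π c) = 0 := by
        rw [hval, E.lift_invol hT (by rw [← map_mul, hc, map_one])]
      have : ∀ χ : IrrCharacter G, (m χ : ℂ) * (d χ : ℂ) * (cl * ((χ : G → ℂ) (π c) / (d χ : ℂ) - 1)) =
          cl * ((m χ : ℂ) * (χ : G → ℂ) (π c)) - cl * ((m χ : ℂ) * (d χ : ℂ)) := fun χ => by
        have := hdC χ
        field_simp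
      rw [Finset.sum_congr rfl fun χ _ => this χ, Finset.sum_sub_distrib, ← Finset.mul_sum,
        ← Finset.mul_sum, hlin, hdeg]
      ring
    have hsq : ∀ {a b : Q} {j k : ℕ}, a * a = 1 → b * b = 1 →
        (∀ x, IsConj (π a) (π x) ↔ kind x = j) → (∀ x, IsConj (π b) (π x) ↔ kind x = k) →
        ∑ χ : IrrCharacter G, (m χ : ℂ) * (d χ : ℂ) *
          (((Nat.card {x : G // IsConj (π a) x} : ℂ) * ((χ : G → ℂ) (π a) / (d χ : ℂ) - 1)) *
           ((Nat.card {x : G // IsConj (π b) x} : ℂ) * ((χ : G → ℂ) (π b) / (d χ : ℂ) - 1))) =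
          (Nat.card G : ℂ) / 648 * (pairTotal j k T).val := by
      intro a b j k ha hb hj hk
      rw [← E.moment hT hi ha hb hj hk]
      set A := (Nat.card {x : G // IsConj (π a) x} : ℂ)
      set B := (Nat.card {x : G // IsConj (π b) x} : ℂ)
      have : ∀ χ : IrrCharacter G, (m χ : ℂ) * (d χ : ℂ) *
          ((A * ((χ : G → ℂ) (π a) / (d χ : ℂ) - 1)) * (B * ((χ : G → ℂ) (π b) / (d χ : ℂ) - 1))) =
          A * B * ((m χ : ℂ) * ((χ : G → ℂ) (π a) * (χ : G → ℂ) (π b) / (χ : G → ℂ) 1)) -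
            A * B * ((m χ : ℂ) * (χ : G → ℂ) (π a)) - A * B * ((m χ : ℂ) * (χ : G → ℂ) (π b)) +
            A * B * ((m χ : ℂ) * (d χ : ℂ)) := fun χ => by
        have := hdC χ
        rw [hd χ]
        field_simp
        ring
      rw [Finset.sum_congr rfl fun χ _ => this χ, Finset.sum_add_distrib, Finset.sum_sub_distrib,
        Finset.sum_sub_distrib, ← Finset.mul_sum, ← Finset.mul_sum, ← Finset.mul_sum,
        ← Finset.mul_sum, hdeg, hval, hval, E.lift_invol hT (by rw [← map_mul, ha, map_one]),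
        E.lift_invol hT (by rw [← map_mul, hb, map_one])]
      ring
    simp only [hxx, hyy]
    exact ⟨by exact_mod_cast hdeg, hone _ v2 _, hone _ w2 _, hsq v2 v2 E.isConj_v E.isConj_v,
      hsq v2 w2 E.isConj_v E.isConj_w, hsq w2 w2 E.isConj_w E.isConj_w⟩
  obtain ⟨⟨tP, tB, tC, tA, tE⟩, ⟨nP, nB, nC, nA, nE⟩, ⟨nPB, nPE, nBE, nCE, nAE⟩⟩ := innerTables
  obtain ⟨vP, vB, vC, vA, vE⟩ := pairTables_vv
  obtain ⟨xP, xB, xC, xA, xE⟩ := pairTables_vw
  obtain ⟨wP, wB, wC, wA, wE⟩ := pairTables_ww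
  set J : ℚ := 3 * (Nat.card G : ℚ) with hJd
  have hJ : J ≠ 0 := mul_ne_zero three_ne_zero (Nat.cast_ne_zero.2 Nat.card_pos.ne')
  -- the five records
  have qP : Quad o d (fun i => (xx i : ℂ)) (fun i => (yy i : ℂ)) mP J J (2 * J) := by
    obtain ⟨a1, a2, a3, a4, a5, a6⟩ := hmom tab_P eP iP
    rw [vP] at a4; rw [xP] at a5; rw [wP] at a6
    exact ⟨htriv iP 1 tP, hinner tab_P tab_P eP iP 4 nP, a1, a2, a3,
      a4.trans (by simp [RootThree.val, hJd]; ring), a5.trans (by simp [RootThree.val, hJd]; ring),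
      a6.trans (by simp [RootThree.val, hJd]; ring)⟩
  have qB : Quad o d (fun i => (xx i : ℂ)) (fun i => (yy i : ℂ)) mB 0 J J := by
    obtain ⟨a1, a2, a3, a4, a5, a6⟩ := hmom tab_B eB iB
    rw [vB] at a4; rw [xB] at a5; rw [wB] at a6
    exact ⟨htriv iB 1 tB, hinner tab_B tab_B eB iB 4 nB, a1, a2, a3,
      a4.trans (by simp [RootThree.val]), a5.trans (by simp [RootThree.val, hJd]; ring),
      a6.trans (by simp [RootThree.val, hJd]; ring)⟩
  have qC : Quad o d (fun i => (xx i : ℂ)) (fun i => (yy i : ℂ)) mC (J / 2) (J / 2) (3 / 2 * J) := by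
    obtain ⟨a1, a2, a3, a4, a5, a6⟩ := hmom tab_C eC iC
    rw [vC] at a4; rw [xC] at a5; rw [wC] at a6
    exact ⟨htriv iC 1 tC, hinner tab_C tab_C eC iC 4 nC, a1, a2, a3,
      a4.trans (by simp [RootThree.val, hJd]; ring), a5.trans (by simp [RootThree.val, hJd]; ring),
      a6.trans (by simp [RootThree.val, hJd]; ring)⟩
  have qA : Quad o d (fun i => (xx i : ℂ)) (fun i => (yy i : ℂ)) mA J 0 (3 * J) := by
    obtain ⟨a1, a2, a3, a4, a5, a6⟩ := hmom tab_A eA iA
    rw [vA] at a4; rw [xA] at a5; rw [wA] at a6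
    exact ⟨htriv iA 1 tA, hinner tab_A tab_A eA iA 4 nA, a1, a2, a3,
      a4.trans (by simp [RootThree.val, hJd]; ring), a5.trans (by simp [RootThree.val]),
      a6.trans (by simp [RootThree.val, hJd]; ring)⟩
  have qE : Tri o d (fun i => (xx i : ℂ)) (fun i => (yy i : ℂ)) mE J 0 0 := by
    obtain ⟨a1, a2, a3, a4, a5, a6⟩ := hmom tab_E eE iE
    rw [vE] at a4; rw [xE] at a5; rw [wE] at a6
    exact ⟨htriv iE 0 tE, hinner tab_E tab_E eE iE 3 nE, a1, a2, a3,
      a4.trans (by simp [RootThree.val, hJd]; ring), a5.trans (by simp [RootThree.val]),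
      a6.trans (by simp [RootThree.val])⟩
  -- linear constituents
  have hfix : ∀ x : Q, π (conjBy x) * π (rep (kind x)) * (π (conjBy x))⁻¹ = π x := fun x => by
    rw [← map_inv, ← map_mul, ← map_mul, (kind_spec x).2]
  have hsplit : ∀ (T : List RootThree), (∑ x ∈ Finset.univ.filter (fun x : Q => x.right.w = true),
      tableFun T x) = ((∑ x ∈ Finset.univ.filter (fun x : Q => x.right.w = true), (valueAt T x).a : ℤ) : ℂ) +
        ((∑ x ∈ Finset.univ.filter (fun x : Q => x.right.w = true), (valueAt T x).b : ℤ) : ℂ) *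
          (Real.sqrt 3 : ℂ) := by
    intro T
    simp only [tableFun, RootThree.val, Int.cast_sum, Finset.sum_mul, Finset.sum_add_distrib]
  obtain ⟨sPa, sBa, sEa, sPb, sBb, sEb⟩ := tableSums
  have hlin : ∀ χ, χ ≠ o → d χ = 1 → mP χ ≠ -1 ∧ mB χ ≠ -1 := by
    intro χ _ h1
    obtain ⟨l, hl⟩ := exists_hom_of_degree_one (IsIrrCharacter.isCharacter χ.2)
      (by rw [hd χ, h1, Nat.cast_one])
    let φ : Q →* ℂ := l.comp π
    have hcomm : ∀ a b : Q, φ (a * b * a⁻¹ * b⁻¹) = 1 := fun a b => by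
      rw [map_mul, map_mul, map_mul, show φ a * φ b * φ a⁻¹ * φ b⁻¹ = φ a * φ a⁻¹ * (φ b * φ b⁻¹) by ring,
        ← map_mul φ a, ← map_mul φ b, mul_inv_cancel, mul_inv_cancel, map_one, one_mul]
    obtain ⟨c1, c2, c3, c5, c13, c7, c8⟩ := commutator_witness
    have hl2 : φ wSwap * φ wSwap = 1 := by rw [← map_mul, w2, map_one]
    have hcls : ∀ x, φ x = φ (rep (kind x)) := fun x => by
      conv_lhs => rw [← (kind_spec x).2]
      rw [map_mul, map_mul, show φ (conjBy x) * φ (rep (kind x)) * φ (conjBy x)⁻¹ =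
        φ (conjBy x) * φ (conjBy x)⁻¹ * φ (rep (kind x)) by ring, ← map_mul, mul_inv_cancel, map_one,
        one_mul]
    have hval : ∀ x, valueAt tabP x ≠ .zero ∨ valueAt tabB x ≠ .zero →
        conj ((χ : G → ℂ) (π x)) = if x.right.w = true then φ wSwap else 1 := by
      intro x hx
      have e : (χ : G → ℂ) (π x) = φ x := by rw [← hl]; rfl
      rw [e, hcls x]
      have hσ : φ wSwap = 1 ∨ φ wSwap = -1 := mul_self_eq_one_iff.1 hl2
      have hw := swap_iff x
      rcases table_vals x with ⟨z1, z2⟩ | k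
      · rcases hx with h | h
        · exact absurd z1 h
        · exact absurd z2 h
      rcases k with k | k | k | k | k | k | k
      · rw [k, c1, hcomm, map_one, if_neg (by rw [hw]; omega)]
      · rw [k, c2, hcomm, map_one, if_neg (by rw [hw]; omega)]
      · rw [k, c3, hcomm, map_one, if_neg (by rw [hw]; omega)]
      · rw [k, c5, hcomm, map_one, if_neg (by rw [hw]; omega)]
      · rw [k, c13, hcomm, map_one, if_neg (by rw [hw]; omega)]
      · have h7 : φ (rep 7) = φ wSwap := by
          have := hcomm (decode 27) (decode 450)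
          rw [← c7, map_mul] at this
          linear_combination φ wSwap * this - φ (rep 7) * hl2
        rw [k, h7, if_pos (hw.2 (by omega))]
        rcases hσ with e | e <;> rw [e] <;> simp
      · have h8 : φ (rep 8) = φ wSwap := by
          have := hcomm (decode 27) (decode 441)
          rw [← c8, map_mul] at this
          linear_combination φ wSwap * this - φ (rep 8) * hl2
        rw [k, h8, if_pos (hw.2 (by omega))]
        rcases hσ with e | e <;> rw [e] <;> simp
    have key : ∀ {T : List RootThree} {m : IrrCharacter G → ℤ},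
        (∀ x, valueAt T x ≠ .zero → valueAt tabP x ≠ .zero ∨ valueAt tabB x ≠ .zero) →
        (∀ χ : IrrCharacter G, classInner (E.lift T) (χ : G → ℂ) = m χ) →
        (648 : ℂ) * (m χ : ℂ) = ∑ x : Q, tableFun T x +
          (φ wSwap - 1) * ∑ x ∈ Finset.univ.filter (fun x : Q => x.right.w = true), tableFun T x := by
      intro T m hsub hi
      rw [← hi χ, E.inner_lift T (IsIrrCharacter.isClassFunction χ.2), ← mul_assoc,
        mul_inv_cancel₀ (by norm_num), one_mul, Finset.sum_filter, Finset.mul_sum,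
        ← Finset.sum_add_distrib]
      refine Finset.sum_congr rfl fun x _ => ?_
      by_cases h : valueAt T x = .zero
      · simp [tableFun, h, RootThree.val_zero]
      · rw [hval x (hsub x h)]
        split_ifs <;> ring
    have hsum : ∀ {T : List RootThree}, innerTotal T tabOne = ⟨648, 0⟩ →
        ∑ x : Q, tableFun T x = 648 := by
      intro T h
      have e1 : ∀ x : Q, tableFun T x = tableFun T x * tableFun tabOne x := fun x => by
        have e : valueAt tabOne x = ⟨1, 0⟩ := by
          rw [valueAt, tabOne, List.getD_eq_getElem _ _ (by simpa using (kind_spec x).1),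
            List.getElem_replicate]
        simp [tableFun, e, RootThree.val]
      rw [Finset.sum_congr rfl fun x _ => e1 x, ← inner_eq, h]
      simp [RootThree.val]
    have hσ : φ wSwap = 1 ∨ φ wSwap = -1 := mul_self_eq_one_iff.1 hl2
    constructor <;> intro hm
    · have := key (fun x h => Or.inl h) iP
      rw [hm, hsum tP, hsplit, sPa, sPb] at this
      rcases hσ with e | e <;> rw [e] at this <;> norm_num at this
    · have := key (fun x h => Or.inr h) iB
      rw [hm, hsum tB, hsplit, sBa, sBb] at this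
      rcases hσ with e | e <;> rw [e] at this <;> norm_num at this
  have hxo : xx o = 0 := by
    have hC : (xx o : ℂ) = 0 := by rw [hxx, hdo]; simp [o]
    exact_mod_cast hC
  have hyo : yy o = 0 := by
    have hC : (yy o : ℂ) = 0 := by rw [hyy, hdo]; simp [o]
    exact_mod_cast hC
  obtain ⟨r, -, hr2, hrx, hrE⟩ := exists_degree_two hJ hdpos hdo hxo hyo hlin qP qB qC qA qE
    (hinner tab_P tab_B eP iB 2 nPB) (hinner tab_P tab_E eP iE 1 nPE)
    (hinner tab_B tab_E eB iE (-1) nBE) (hinner tab_C tab_E eC iE (-1) nCE)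
    (hinner tab_A tab_E eA iE 1 nAE)
  obtain ⟨n, ρ, hρ⟩ := IsIrrCharacter.isCharacter r.2
  refine ⟨MonoidHom.ker ρ, inferInstance, ?_⟩
  have hker : ∀ g, g ∈ MonoidHom.ker ρ ↔ (r : G → ℂ) g = (r : G → ℂ) 1 := fun g => by
    rw [← hρ, Representation.char_one, character_eq_finrank_iff]
    rfl
  have hcv0 : (cv : ℂ) ≠ 0 := by
    have : Nonempty {x : G // IsConj (π vAxis) x} := ⟨⟨_, IsConj.refl _⟩⟩
    exact Nat.cast_ne_zero.2 Nat.card_pos.ne'
  have hv : π vAxis ∈ MonoidHom.ker ρ := by
    rw [hker, hd r]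
    have := hxx r
    rw [hrx, Rat.cast_zero, eq_comm, mul_eq_zero, or_iff_right hcv0, sub_eq_zero,
      div_eq_one_iff_eq (hdC r)] at this
    exact this
  let N := (MonoidHom.ker ρ).comap π
  have hN : ∀ x, x ∈ N ↔ π x ∈ MonoidHom.ker ρ := fun x => Iff.rfl
  have : N.Normal := inferInstance
  have h4 : ∀ x, kind x = 4 → x ∈ N := fun x hx => by
    rw [hN, ← hfix x, hx]
    exact Subgroup.Normal.conj_mem inferInstance _ hv _
  have hsmall : ∀ x ∈ smallSub, x ∈ N := by
    intro x hx
    obtain ⟨e, k1, k2, k3, k4, k5, k6⟩ := small_generation x hx.1 hx.2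
    rw [e]
    refine mul_mem (mul_mem (mul_mem ?_ ?_) ?_) ?_
    · split_ifs with h
      · exact N.one_mem
      · exact mul_mem (h4 _ (k1 h)) (h4 _ k4)
    · split_ifs with h
      · exact N.one_mem
      · exact mul_mem (h4 _ (k2 h)) (h4 _ k5)
    · split_ifs with h
      · exact N.one_mem
      · exact mul_mem (h4 _ (k3 h)) (h4 _ k5)
    · rcases k6 with h | h
      · rw [h]; exact N.one_mem
      · exact h4 _ h
  intro x
  refine ⟨fun hx => ?_, hsmall x⟩
  by_contra hout
  obtain ⟨z, hzN, hzw, hzr⟩ : ∃ z ∈ N, z.right.w = false ∧ z.right.r ≠ 0 := by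
    cases hw : x.right.w
    · exact ⟨x, hx, hw, fun h => hout ⟨h, hw⟩⟩
    · refine ⟨x * rotQ * x⁻¹ * rotQ⁻¹, ?_, swap_commutator x hw⟩
      rw [mul_assoc, mul_assoc]
      refine mul_mem hx ?_
      rw [← mul_assoc]
      exact Subgroup.Normal.conj_mem inferInstance _ (N.inv_mem hx) rotQ
  have hfalse : ∀ y : Q, y.right.w = false → y ∈ N := by
    intro y hy
    rcases shift_out y.right z.right hy hzw hzr with h | h | h
    · exact hsmall y ⟨h, hy⟩
    · have := mul_mem hzN (hsmall (z⁻¹ * y) (by rw [mem_smallSub]; simpa using h))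
      rwa [mul_inv_cancel_left] at this
    · have := mul_mem (N.inv_mem hzN) (hsmall (z * y) (by rw [mem_smallSub]; simpa using h))
      rwa [inv_mul_cancel_left] at this
  have hchi : ∀ y : Q, (r : G → ℂ) (π y) = if y.right.w = true then (r : G → ℂ) (π wSwap) else 2 := by
    intro y
    split_ifs with hy
    · have hm : y * wSwap⁻¹ ∈ N := hfalse _ (by
        have key : ∀ g : Mon, g.w = true → (g * wSwap.right⁻¹).w = false := by decide +kernel
        exact key _ hy)
      have hm' : ρ (π (y * wSwap⁻¹)) = 1 := hm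
      rw [← hρ]
      show LinearMap.trace ℂ _ (ρ (π y)) = LinearMap.trace ℂ _ (ρ (π wSwap))
      rw [show y = y * wSwap⁻¹ * wSwap by group, map_mul, map_mul, hm', one_mul]
    · rw [(hker _).1 (hfalse y (by simpa using hy)), hd r, hr2]; norm_num
  have h := iE r
  rw [E.inner_lift tabE (IsIrrCharacter.isClassFunction r.2)] at h
  have e : ∀ y : Q, tableFun tabE y * conj ((r : G → ℂ) (π y)) = 2 * tableFun tabE y +
      (if y.right.w = true then (conj ((r : G → ℂ) (π wSwap)) - 2) * tableFun tabE y else 0) := by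
    intro y
    rw [hchi y]
    split_ifs
    · ring
    · rw [map_ofNat]; ring
  have hsE : ∑ y : Q, tableFun tabE y = 0 := by
    have e1 : ∀ y : Q, tableFun tabE y = tableFun tabE y * tableFun tabOne y := fun y => by
      have e : valueAt tabOne y = ⟨1, 0⟩ := by
        rw [valueAt, tabOne, List.getD_eq_getElem _ _ (by simpa using (kind_spec y).1),
          List.getElem_replicate]
      simp [tableFun, e, RootThree.val]
    rw [Finset.sum_congr rfl fun y _ => e1 y, ← inner_eq, tE]
    simp [RootThree.val]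
  rw [Finset.sum_congr rfl fun y _ => e y, Finset.sum_add_distrib, ← Finset.mul_sum,
    ← Finset.sum_filter, ← Finset.mul_sum, hsE, hsplit, sEa, sEb] at h
  norm_num at h
  exact hrE (by exact_mod_cast h.symm)

end Cfsg.Agent.ThreeCubedSymFour
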