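import Cfsg.Agent.Lib.ThreeCubedSymFour.Tables
import Mathlib

/-!
# The model `3^3:S4`

* `Mon`, `Q`: the groups; `kind`, `kind_spec`: the classes
* `pairTables`, `innerTables`: computations with the five class functions
-/

set_option autoImplicit false

namespace Cfsg.Agent.ThreeCubedSymFour

/-- The space over three elements. -/
abbrev V3 := ZMod 3 × ZMod 3 × ZMod 3

/-- A monomial matrix with entries `±1` whose sign product is the sign of its permutation:
`r` rotates the coordinates, `w` swaps the last two, `s` and `t` are the first two signs. -/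
structure Mon where
  r : ZMod 3
  w : Bool
  s : Bool
  t : Bool
  deriving DecidableEq

/-- The encoding of `Mon` as a product. -/
def Mon.equivProd : Mon ≃ ZMod 3 × Bool × Bool × Bool where
  toFun m := (m.r, m.w, m.s, m.t)
  invFun p := ⟨p.1, p.2.1, p.2.2.1, p.2.2.2⟩
  left_inv _ := rfl
  right_inv _ := rfl

instance instFintypeMon : Fintype Mon := Fintype.ofEquiv _ Mon.equivProd.symm

/-- The third sign. -/
def Mon.u (m : Mon) : Bool := xor (xor m.s m.t) m.w

/-- The permutation of the coordinates. -/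
def permTriple {α : Type} (r : ZMod 3) (w : Bool) (x : α × α × α) : α × α × α :=
  let y := if w then (x.1, x.2.2, x.2.1) else x
  if r = 1 then (y.2.2, y.1, y.2.1) else if r = 2 then (y.2.1, y.2.2, y.1) else y

/-- Multiplication of monomial matrices. -/
def Mon.mulFun (g h : Mon) : Mon :=
  let e := permTriple g.r g.w (h.s, h.t, h.u)
  ⟨if g.w then g.r - h.r else g.r + h.r, xor g.w h.w, xor g.s e.1, xor g.t e.2.1⟩

/-- The inverse of a monomial matrix. -/
def Mon.invFun' (g : Mon) : Mon :=
  let g3 := Mon.mulFun g (Mon.mulFun g g)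
  let g5 := Mon.mulFun g3 (Mon.mulFun g g)
  Mon.mulFun (Mon.mulFun g3 g3) g5

instance instMulMon : Mul Mon := ⟨Mon.mulFun⟩
instance instOneMon : One Mon := ⟨⟨0, false, false, false⟩⟩
instance instInvMon : Inv Mon := ⟨Mon.invFun'⟩

instance instGroupMon : Group Mon :=
  Group.ofLeftAxioms (by decide +kernel) (by decide +kernel) (by decide +kernel)

/-- The action on the space. -/
def actV (g : Mon) (v : V3) : V3 :=
  let y := permTriple g.r g.w v
  (if g.s then -y.1 else y.1, if g.t then -y.2.1 else y.2.1, if g.u then -y.2.2 else y.2.2)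

theorem actV_one : ∀ v, actV 1 v = v := by decide +kernel
theorem actV_mul : ∀ g h v, actV (g * h) v = actV g (actV h v) := by decide +kernel
theorem actV_add : ∀ g v w, actV g (v + w) = actV g v + actV g w := by decide +kernel

/-- The action as a homomorphism. -/
def actHom : Mon →* MulAut (Multiplicative V3) where
  toFun g :=
    { toFun := fun v => Multiplicative.ofAdd (actV g v.toAdd)
      invFun := fun v => Multiplicative.ofAdd (actV g⁻¹ v.toAdd)
      left_inv := fun v => by simp [← actV_mul, actV_one]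
      right_inv := fun v => by simp [← actV_mul, actV_one]
      map_mul' := fun v w => by simp [actV_add] }
  map_one' := by ext v : 1; simp [actV_one]
  map_mul' g h := by ext v : 1; simp [actV_mul]

/-- `3^3:S4`. -/
abbrev Q := SemidirectProduct (Multiplicative V3) Mon actHom

instance instFintypeQ : Fintype Q := Fintype.ofEquiv _ SemidirectProduct.equivProd.symm

/-- An element of the model. -/
def el (a b c r : ZMod 3) (w s t : Bool) : Q := ⟨Multiplicative.ofAdd (a, b, c), ⟨r, w, s, t⟩⟩

/-- Decoding. -/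
def decode (i : Nat) : Q :=
  el (((i % 27) / 9 : Nat) : ZMod 3) (((i % 9) / 3 : Nat) : ZMod 3) ((i % 3 : Nat) : ZMod 3)
    ((i / 216 : Nat) : ZMod 3) ((i / 108) % 2 == 1) ((i / 54) % 2 == 1) ((i / 27) % 2 == 1)

/-- Table lookup by element. -/
def lookup (L : List (List Nat)) (x : Q) : Nat :=
  (L.getD (x.right.r.val * 8 + (cond x.right.w 4 0) + (cond x.right.s 2 0) + (cond x.right.t 1 0))
    []).getD (x.left.toAdd.1.val * 9 + x.left.toAdd.2.1.val * 3 + x.left.toAdd.2.2.val) 0

/-- The class of an element. -/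
def kind (x : Q) : Nat := lookup kindTable x

/-- The representative of a class. -/
def rep (j : Nat) : Q := decode (repCode.getD j 0)

/-- A conjugator from the representative. -/
def conjBy (x : Q) : Q := decode (lookup conjTable x)

theorem kind_spec : ∀ x : Q, kind x < 14 ∧ conjBy x * rep (kind x) * (conjBy x)⁻¹ = x := by
  decide +kernel

/-- The class of elements trivial on the coordinates. -/
def vAxis : Q := rep 4
@[inherit_doc vAxis] def wSwap : Q := rep 9

theorem invol_kind : ∀ x : Q, x * x = 1 → x ≠ 1 → kind x = 4 ∨ kind x = 9 := by decide +kernel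

theorem kind_rep : ∀ j : Fin 14, kind (rep j) = j := by decide +kernel

theorem kind_card : ∀ j : Fin 14,
    ((Finset.univ.filter fun x : Q => kind x = (j : Nat)).card : Int) = classSize.getD j 0 := by
  decide +kernel

/-- The codes of one class. -/
def classCodes (j : Nat) : List Nat :=
  (List.range 648).filter fun i => (kindTable.getD (i / 27) []).getD (i % 27) 0 == j

theorem classCodes_spec : ∀ x : Q, ∃ i < 648, decode i = x ∧ (kindTable.getD (i / 27) []).getD (i % 27) 0 = kind x :=
  fun x => ⟨(x.right.r.val * 8 + (cond x.right.w 4 0) + (cond x.right.s 2 0) + (cond x.right.t 1 0)) * 27 +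
    (x.left.toAdd.1.val * 9 + x.left.toAdd.2.1.val * 3 + x.left.toAdd.2.2.val), by
      revert x; decide +kernel⟩

theorem decode_inj : ∀ i : Fin 648, (decode i).right.r.val * 216 + cond (decode i).right.w 108 0 +
    cond (decode i).right.s 54 0 + cond (decode i).right.t 27 0 + (decode i).left.toAdd.1.val * 9 +
    (decode i).left.toAdd.2.1.val * 3 + (decode i).left.toAdd.2.2.val = i := by decide +kernel

/-- Zero in `ℤ[√3]`. -/
def RootThree.zero : RootThree := ⟨0, 0⟩
/-- Addition in `ℤ[√3]`. -/
def RootThree.add (x y : RootThree) : RootThree := ⟨x.a + y.a, x.b + y.b⟩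
/-- Multiplication in `ℤ[√3]`. -/
def RootThree.mul (x y : RootThree) : RootThree := ⟨x.a * y.a + 3 * x.b * y.b, x.a * y.b + x.b * y.a⟩

/-- The value of a table at an element. -/
def valueAt (T : List RootThree) (x : Q) : RootThree := T.getD (kind x) RootThree.zero

/-- The sum over pairs from two classes. -/
def pairTotal (j k : Nat) (T : List RootThree) : RootThree :=
  ((classCodes j).flatMap fun a => (classCodes k).map fun b =>
    valueAt T (decode a * decode b)).foldr RootThree.add RootThree.zero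

/-- The inner product of two tables, times the order. -/
def innerTotal (T T' : List RootThree) : RootThree :=
  ((List.range 14).map fun j => RootThree.mul ⟨classSize.getD j 0, 0⟩
    (RootThree.mul (T.getD j RootThree.zero) (T'.getD j RootThree.zero))).foldr RootThree.add RootThree.zero

/-- The table of ones. -/
def tabOne : List RootThree := List.replicate 14 ⟨1, 0⟩

theorem innerTables :
    (innerTotal tabP tabOne = ⟨648, 0⟩ ∧ innerTotal tabB tabOne = ⟨648, 0⟩ ∧
      innerTotal tabC tabOne = ⟨648, 0⟩ ∧ innerTotal tabA tabOne = ⟨648, 0⟩ ∧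
      innerTotal tabE tabOne = ⟨0, 0⟩) ∧
    (innerTotal tabP tabP = ⟨2592, 0⟩ ∧ innerTotal tabB tabB = ⟨2592, 0⟩ ∧
      innerTotal tabC tabC = ⟨2592, 0⟩ ∧ innerTotal tabA tabA = ⟨2592, 0⟩ ∧
      innerTotal tabE tabE = ⟨1944, 0⟩) ∧
    (innerTotal tabP tabB = ⟨1296, 0⟩ ∧ innerTotal tabP tabE = ⟨648, 0⟩ ∧
      innerTotal tabB tabE = ⟨-648, 0⟩ ∧ innerTotal tabC tabE = ⟨-648, 0⟩ ∧
      innerTotal tabA tabE = ⟨648, 0⟩) := by decide +kernel

theorem pairTables_vv : pairTotal 4 4 tabP = ⟨1944, 0⟩ ∧ pairTotal 4 4 tabB = ⟨0, 0⟩ ∧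
    pairTotal 4 4 tabC = ⟨972, 0⟩ ∧ pairTotal 4 4 tabA = ⟨1944, 0⟩ ∧
    pairTotal 4 4 tabE = ⟨1944, 0⟩ := by decide +kernel

theorem pairTables_vw : pairTotal 4 9 tabP = ⟨1944, 0⟩ ∧ pairTotal 4 9 tabB = ⟨1944, 0⟩ ∧
    pairTotal 4 9 tabC = ⟨972, 0⟩ ∧ pairTotal 4 9 tabA = ⟨0, 0⟩ ∧
    pairTotal 4 9 tabE = ⟨0, 0⟩ := by decide +kernel

theorem pairTables_ww : pairTotal 9 9 tabP = ⟨3888, 0⟩ ∧ pairTotal 9 9 tabB = ⟨1944, 0⟩ ∧
    pairTotal 9 9 tabC = ⟨2916, 0⟩ ∧ pairTotal 9 9 tabA = ⟨5832, 0⟩ ∧
    pairTotal 9 9 tabE = ⟨0, 0⟩ := by decide +kernel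

/-- A nonzero table value only occurs on elements with a power in the plane. -/
theorem special_support : ∀ x : Q,
    (valueAt tabP x ≠ .zero ∨ valueAt tabB x ≠ .zero ∨ valueAt tabC x ≠ .zero ∨
      valueAt tabA x ≠ .zero ∨ valueAt tabE x ≠ .zero) →
    ((x * x * (x * x)).right = 1 ∧ x * x * (x * x) ≠ 1) ∨ ((x * x * x).right = 1 ∧ x * x * x ≠ 1) := by
  decide +kernel

end Cfsg.Agent.ThreeCubedSymFour
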