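import Cfsg.Agent.Lib.ThreeSquareDihedral.Algebra

/-!
# The algebra of five virtual characters of `3^3:S4`

The moments at the two classes of involutions force a constituent of degree two with an
involution in its kernel.
-/

set_option autoImplicit false

namespace Cfsg.Agent.ThreeCubedSymFour

open Cfsg.Agent.ThreeSquareDihedral

variable {ι : Type*} [Fintype ι]

/-- Data of a virtual character `x + y + z` vanishing at `1` and at the involutions. -/
structure Tri (o : ι) (d : ι → ℕ) (X Y : ι → ℂ) (m : ι → ℤ) (g₁ g₂ g₃ : ℂ) : Prop where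
  at_triv : m o = 0
  norm : ∑ i, m i * m i = 3
  deg : ∑ i, m i * (d i : ℤ) = 0
  momX : ∑ i, (m i : ℂ) * (d i : ℂ) * X i = 0
  momY : ∑ i, (m i : ℂ) * (d i : ℂ) * Y i = 0
  mom1 : ∑ i, (m i : ℂ) * (d i : ℂ) * (X i * X i) = g₁
  mom2 : ∑ i, (m i : ℂ) * (d i : ℂ) * (X i * Y i) = g₂
  mom3 : ∑ i, (m i : ℂ) * (d i : ℂ) * (Y i * Y i) = g₃

variable {o : ι} {d : ι → ℕ} {X Y : ι → ℂ} {m m' : ι → ℤ} {g₁ g₂ g₃ g₁' g₂' g₃' : ℂ}

open scoped Classical in
theorem Tri.card_support (h : Tri o d X Y m g₁ g₂ g₃) :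
    ((Finset.univ.erase o).filter fun i => m i ≠ 0).card = 3 ∧
      ∀ i, i ≠ o → m i = 0 ∨ m i = 1 ∨ m i = -1 := by
  set S := (Finset.univ.erase o).filter fun i => m i ≠ 0 with hS
  have hsum : ∑ i ∈ S, m i * m i = 3 := by
    have e := Finset.add_sum_erase Finset.univ (fun i => m i * m i) (Finset.mem_univ o)
    simp only [h.at_triv, h.norm] at e
    rw [hS, Finset.sum_filter_of_ne (p := fun i => m i ≠ 0)
      (fun i _ (hi : m i * m i ≠ 0) h0 => hi (by simp [h0]))]
    omega
  have hle : ∀ i ∈ S, m i * m i ≤ 3 := fun i hi =>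
    hsum ▸ Finset.single_le_sum (f := fun i => m i * m i) (fun j _ => mul_self_nonneg _) hi
  have hunit : ∀ i, i ≠ o → m i = 0 ∨ m i = 1 ∨ m i = -1 := by
    intro i hi
    by_cases h0 : m i = 0
    · exact Or.inl h0
    · have := hle i (by simp [hS, hi, h0])
      have h1 : -2 < m i := by nlinarith
      have h2 : m i < 2 := by nlinarith
      omega
  refine ⟨?_, hunit⟩
  have hone : ∀ i ∈ S, m i * m i = 1 := by
    intro i hi
    simp only [hS, Finset.mem_filter, Finset.mem_erase] at hi
    rcases hunit i hi.1.1 with e | e | e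
    · exact absurd e hi.2
    all_goals rw [e]; norm_num
  rw [Finset.sum_congr rfl hone, Finset.sum_const, nsmul_one] at hsum
  exact_mod_cast hsum

open scoped Classical in
/-- A virtual character of norm four meets one of norm three once, if the inner product is `±1`. -/
theorem common (h : Quad o d X Y m g₁ g₂ g₃) (h' : Tri o d X Y m' g₁' g₂' g₃')
    (hd0 : ∀ i, d i ≠ 0) (hdo : d o = 1) {ε : ℤ} (hε : ε = 1 ∨ ε = -1)
    (hin : ∑ i, m i * m' i = ε) :
    ∃ r, r ≠ o ∧ m r ≠ 0 ∧ m' r = ε * m r ∧ ∀ i, i ≠ o → m i ≠ 0 → m' i ≠ 0 → i = r := by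
  obtain ⟨hc, hu⟩ := h.card_support
  obtain ⟨hc', hu'⟩ := h'.card_support
  set S := (Finset.univ.erase o).filter fun l => m l ≠ 0 with hS
  set S' := (Finset.univ.erase o).filter fun l => m' l ≠ 0 with hS'
  have hmem : ∀ i ∈ S ∩ S', i ≠ o ∧ m i ≠ 0 ∧ m' i ≠ 0 := by
    intro i hi
    simp only [hS, hS', Finset.mem_inter, Finset.mem_filter, Finset.mem_erase] at hi
    exact ⟨hi.1.1.1, hi.1.2, hi.2.2⟩
  have hsum : ∑ i ∈ S ∩ S', m i * m' i = ε := by
    rw [← hin]
    refine Finset.sum_subset (Finset.subset_univ _) fun i _ hni => ?_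
    by_cases hio : i = o
    · subst hio; simp [h'.at_triv]
    · by_contra h0
      exact hni (by simp [hS, hS', hio, left_ne_zero_of_mul h0, right_ne_zero_of_mul h0])
  have hrel : ∀ i ∈ S ∩ S', (m' i = m i ∧ m i * m' i = 1) ∨ (m' i = -m i ∧ m i * m' i = -1) := by
    intro i hi
    obtain ⟨h0, h1, h2⟩ := hmem i hi
    rcases hu i h0 with p | p | p <;> rcases hu' i h0 with q | q | q <;> simp_all
  have hle : (S ∩ S').card ≤ 3 := hc ▸ Finset.card_le_card Finset.inter_subset_left
  rcases (by omega : (S ∩ S').card = 0 ∨ (S ∩ S').card = 1 ∨ (S ∩ S').card = 2 ∨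
      (S ∩ S').card = 3) with k | k | k | k
  · rw [Finset.card_eq_zero.1 k] at hsum; simp at hsum; omega
  · obtain ⟨r, hr⟩ := Finset.card_eq_one.1 k
    have hrm : r ∈ S ∩ S' := by simp [hr]
    obtain ⟨h0, h1, h2⟩ := hmem r hrm
    rw [hr, Finset.sum_singleton] at hsum
    refine ⟨r, h0, h1, ?_, fun i hi hmi hmi' => ?_⟩
    · rcases hrel r hrm with ⟨p, q⟩ | ⟨p, q⟩ <;> rw [← hsum, q, p] <;> ring
    · have : i ∈ S ∩ S' := by simp [hS, hS', hi, hmi, hmi']
      simpa [hr] using this
  · obtain ⟨a, b, hab, he⟩ := Finset.card_eq_two.1 k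
    rw [he, Finset.sum_pair hab] at hsum
    rcases hrel a (by simp [he]) with ⟨-, x⟩ | ⟨-, x⟩ <;>
      rcases hrel b (by simp [he]) with ⟨-, y⟩ | ⟨-, y⟩ <;> omega
  · exfalso
    have eS : S ∩ S' = S := Finset.eq_of_subset_of_card_le Finset.inter_subset_left (by omega)
    have eS' : S ∩ S' = S' := Finset.eq_of_subset_of_card_le Finset.inter_subset_right (by omega)
    obtain ⟨a, b, c, hab, hac, hbc, he⟩ := Finset.card_eq_three.1 k
    have hdiff : ∑ i, (m i - ε * m' i) * (d i : ℤ) = 0 := by
      simp only [sub_mul, mul_assoc, Finset.sum_sub_distrib, ← Finset.mul_sum, h.deg, h'.deg]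
      ring
    have hoS : o ∉ S ∩ S' := fun ho => (hmem o ho).1 rfl
    have e : ∑ i, (m i - ε * m' i) * (d i : ℤ) = 1 + ((m a - ε * m' a) * d a +
        ((m b - ε * m' b) * d b + (m c - ε * m' c) * d c)) := by
      rw [← Finset.sum_subset (Finset.subset_univ (insert o (S ∩ S'))) fun i _ hi => ?_,
        Finset.sum_insert hoS, h.at_triv, h'.at_triv, hdo, he,
        Finset.sum_insert (by simp [hab, hac]), Finset.sum_pair hbc]
      · simp
      · simp only [Finset.mem_insert, not_or] at hi
        have h1 : m i = 0 := by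
          by_contra h0; exact hi.2 (eS.symm ▸ (by simp [hS, hi.1, h0]))
        have h2 : m' i = 0 := by
          by_contra h0; exact hi.2 (eS'.symm ▸ (by simp [hS', hi.1, h0]))
        simp [h1, h2]
    rw [e] at hdiff
    obtain ⟨o1, -, -⟩ := hmem a (by simp [he])
    obtain ⟨o2, -, -⟩ := hmem b (by simp [he])
    obtain ⟨o3, -, -⟩ := hmem c (by simp [he])
    obtain ⟨ka, hka⟩ : ∃ z : ℤ, (m a - ε * m' a) * (d a : ℤ) = 2 * z := by
      rcases hrel a (by simp [he]) with ⟨p, -⟩ | ⟨p, -⟩ <;> rw [p] <;> rcases hε with rfl | rfl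
      · exact ⟨0, by ring⟩
      · exact ⟨m a * d a, by ring⟩
      · exact ⟨m a * d a, by ring⟩
      · exact ⟨0, by ring⟩
    obtain ⟨kb, hkb⟩ : ∃ z : ℤ, (m b - ε * m' b) * (d b : ℤ) = 2 * z := by
      rcases hrel b (by simp [he]) with ⟨p, -⟩ | ⟨p, -⟩ <;> rw [p] <;> rcases hε with rfl | rfl
      · exact ⟨0, by ring⟩
      · exact ⟨m b * d b, by ring⟩
      · exact ⟨m b * d b, by ring⟩
      · exact ⟨0, by ring⟩
    obtain ⟨kc, hkc⟩ : ∃ z : ℤ, (m c - ε * m' c) * (d c : ℤ) = 2 * z := by
      rcases hrel c (by simp [he]) with ⟨p, -⟩ | ⟨p, -⟩ <;> rw [p] <;> rcases hε with rfl | rfl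
      · exact ⟨0, by ring⟩
      · exact ⟨m c * d c, by ring⟩
      · exact ⟨m c * d c, by ring⟩
      · exact ⟨0, by ring⟩
    rw [hka, hkb, hkc] at hdiff
    omega

open scoped Classical in
/-- The constituents of a norm three character with second moment only along `X`. -/
theorem Tri.identity (h : Tri o d X Y m g₁ 0 g₃) (hd0 : ∀ i, d i ≠ 0) (hg : g₁ ≠ 0) {i j : ι}
    (hi : i ≠ o) (hj : j ≠ o) (hij : i ≠ j) (hmi : m i ≠ 0) (hmj : m j ≠ 0) :
    ∃ k, k ≠ o ∧ k ≠ i ∧ k ≠ j ∧ m k ≠ 0 ∧ (∀ l, l ≠ o → m l ≠ 0 → l = i ∨ l = j ∨ l = k) ∧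
      (m i : ℂ) * d i + (m j : ℂ) * d j + (m k : ℂ) * d k = 0 ∧
      (m i : ℂ) * d i * X i + (m j : ℂ) * d j * X j + (m k : ℂ) * d k * X k = 0 ∧
      (m i : ℂ) * d i * ((m j : ℂ) * d j) * ((X i - X j) * (X i - X j)) =
        g₁ * ((m i : ℂ) * d i + (m j : ℂ) * d j) ∧ Y i = Y j ∧ Y k = Y i := by
  obtain ⟨hc, -⟩ := h.card_support
  set S := (Finset.univ.erase o).filter fun l => m l ≠ 0 with hS
  have hiS : i ∈ S := by simp [hS, hi, hmi]
  have hjS : j ∈ S := by simp [hS, hj, hmj]
  have hcard : ((S.erase i).erase j).card = 1 := by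
    rw [Finset.card_erase_of_mem (Finset.mem_erase.2 ⟨hij.symm, hjS⟩), Finset.card_erase_of_mem hiS,
      hc]
  obtain ⟨k, hk⟩ := Finset.card_eq_one.1 hcard
  have hkm : k ∈ (S.erase i).erase j := by simp [hk]
  simp only [Finset.mem_erase, hS, Finset.mem_filter] at hkm
  have hsup : ∀ l, l ≠ o → m l ≠ 0 → l = i ∨ l = j ∨ l = k := by
    intro l hl hml
    by_contra hno
    push Not at hno
    have : l ∈ (S.erase i).erase j := by simp [hS, hl, hml, hno.1, hno.2.1]
    rw [hk, Finset.mem_singleton] at this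
    exact hno.2.2 this
  have E : ∀ f : ι → ℂ, ∑ l, (m l : ℂ) * f l =
      (m i : ℂ) * f i + ((m j : ℂ) * f j + (m k : ℂ) * f k) := by
    intro f
    have e : ∑ l, (m l : ℂ) * f l = ∑ l ∈ {i, j, k}, (m l : ℂ) * f l := by
      refine (Finset.sum_subset (Finset.subset_univ _) fun l _ hl => ?_).symm
      simp only [Finset.mem_insert, Finset.mem_singleton] at hl
      by_cases hlo : l = o
      · subst hlo; simp [h.at_triv]
      · by_contra h0
        exact hl (hsup l hlo fun e => h0 (by simp [e]))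
    rw [e, Finset.sum_insert (by simp [hij, hkm.2.1.symm]), Finset.sum_pair hkm.1.symm]
  have hdeg : ∑ l, (m l : ℂ) * (d l : ℂ) = 0 := by exact_mod_cast h.deg
  have hx := h.momX
  have hy := h.momY
  have h1 := h.mom1
  have h2 := h.mom2
  simp only [mul_assoc] at hx hy h1 h2
  rw [E] at hdeg hx hy h1 h2
  have hak : (m k : ℂ) * d k ≠ 0 :=
    mul_ne_zero (Int.cast_ne_zero.2 hkm.2.2.2) (Nat.cast_ne_zero.2 (hd0 k))
  have haj : (m j : ℂ) * d j ≠ 0 :=
    mul_ne_zero (Int.cast_ne_zero.2 hmj) (Nat.cast_ne_zero.2 (hd0 j))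
  have hai : (m i : ℂ) * d i ≠ 0 :=
    mul_ne_zero (Int.cast_ne_zero.2 hmi) (Nat.cast_ne_zero.2 (hd0 i))
  have ek : (m k : ℂ) * d k = -((m i : ℂ) * d i + (m j : ℂ) * d j) := by linear_combination hdeg
  have P1 : (m i : ℂ) * d i * ((m j : ℂ) * d j) * ((X i - X j) * (X i - X j)) =
      g₁ * ((m i : ℂ) * d i + (m j : ℂ) * d j) := by
    linear_combination ((m i : ℂ) * d i + (m j : ℂ) * d j) * h1
      - ((m k : ℂ) * d k * (X k * X k)) * hdeg
      + ((m k : ℂ) * d k * X k - ((m i : ℂ) * d i * X i + (m j : ℂ) * d j * X j)) * hx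
  have hne : (m i : ℂ) * d i + (m j : ℂ) * d j ≠ 0 := fun e => hak (by rw [ek, e, neg_zero])
  have hdX : X i - X j ≠ 0 := by
    intro e
    rw [e, mul_zero, mul_zero] at P1
    exact mul_ne_zero hg hne P1.symm
  have hYij : Y i = Y j := by
    have : ((m i : ℂ) * d i) * ((m j : ℂ) * d j) * (X i - X j) * (Y i - Y j) = 0 := by
      linear_combination ((m i : ℂ) * d i + (m j : ℂ) * d j) * h2
        - ((m k : ℂ) * d k * (X k * Y k)) * hdeg
        + ((m k : ℂ) * d k * Y k) * hx
        - ((m i : ℂ) * d i * X i + (m j : ℂ) * d j * X j) * hy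
    exact sub_eq_zero.1 ((mul_eq_zero.1 this).resolve_left (mul_ne_zero (mul_ne_zero hai haj) hdX))
  have hYk : Y k = Y i := by
    have : (m k : ℂ) * d k * (Y k - Y i) = 0 := by
      linear_combination hy - Y i * hdeg + (m j : ℂ) * d j * hYij
    exact sub_eq_zero.1 ((mul_eq_zero.1 this).resolve_left hak)
  exact ⟨k, hkm.2.2.1.1, hkm.2.1, hkm.1, hkm.2.2.2, hsup, by linear_combination hdeg,
    by linear_combination hx, P1, hYij, hYk⟩

/-- A rational root of a monic integral polynomial is an integer. -/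
theorem int_root_four {s : ℚ} (b c e f : ℤ)
    (h : s ^ 4 + b * s ^ 3 + c * s ^ 2 + e * s + f = 0) : ∃ z : ℤ, s = z := by
  have hint : IsIntegral ℤ s := by
    refine ⟨Polynomial.X ^ 4 + (Polynomial.C b * Polynomial.X ^ 3 +
      Polynomial.C c * Polynomial.X ^ 2 + Polynomial.C e * Polynomial.X + Polynomial.C f),
      Polynomial.monic_X_pow_add (lt_of_le_of_lt (by compute_degree) (by norm_num : (3 : WithBot ℕ) < 4)), ?_⟩
    simp only [Polynomial.eval₂_add, Polynomial.eval₂_mul, Polynomial.eval₂_pow,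
      Polynomial.eval₂_X, Polynomial.eval₂_C]
    simp only [eq_intCast]
    linear_combination h
  obtain ⟨z, hz⟩ := IsIntegrallyClosed.isIntegral_iff.1 hint
  exact ⟨z, by simpa using hz.symm⟩

/-- The rational core of the case analysis. -/
theorem core {J a b c t u v M : ℚ} (hJ : J ≠ 0) (hab : a ≠ b)
    (hP : v * v - 4 * u * v + 8 * u * u = J * (1 + a)) (hB : 2 * u * v - u * u = J * (1 + b))
    (hk : (a - b) * c = a * u - b * (v - 2 * u)) (hd : J * (a - b) = (v - 3 * u) * (v - 3 * u))
    (hu : u ≠ 0) (ht : v = t * u) (hM : c = M * u)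
    (hC : (3 * u * u - 2 * u * v + v * v = J * (1 + b)) ∨
      (3 * (v - 2 * u) * (v - 2 * u) - 2 * (v - 2 * u) * v + v * v = J * (1 - a)) ∨
      ((a - b) * (3 * c * c - 2 * c * v + v * v) = J * ((a - b) - a * b)))
    (hA : (3 * u * u + v * v = 3 * J * (1 - b)) ∨
      (3 * (v - 2 * u) * (v - 2 * u) + v * v = 3 * J * (1 + a)) ∨
      ((a - b) * (3 * c * c + v * v) = 3 * J * ((a - b) + a * b))) :
    v = 2 * u ∧ a = 1 / 2 := by
  subst ht hM
  have hu2 : u * u ≠ 0 := mul_ne_zero hu hu
  obtain ⟨j, rfl⟩ : ∃ j, J = j * (u * u) := ⟨J / (u * u), by field_simp⟩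
  have hj : j ≠ 0 := left_ne_zero_of_mul hJ
  have eP : j * a = t * t - 4 * t + 8 - j := by
    apply mul_left_cancel₀ hu2; linear_combination -hP
  have eB : j * b = 2 * t - 1 - j := by
    apply mul_left_cancel₀ hu2; linear_combination -hB
  have ed : j * (a - b) = (t - 3) * (t - 3) := by
    apply mul_left_cancel₀ hu2; linear_combination hd
  have hs : t - 3 ≠ 0 := by
    intro e
    rw [e, mul_zero] at ed
    exact hab (sub_eq_zero.1 ((mul_eq_zero.1 ed).resolve_left hj))
  have eM : j = t + 2 + M * (t - 3) := by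
    apply mul_left_cancel₀ hs
    have : j * ((a - b) * M) = j * (a - b * (t - 2)) := by
      congr 1
      apply mul_left_cancel₀ hu
      linear_combination hk
    linear_combination -this + M * ed - eP + (t - 2) * eB
  have eab : j * j * (a * b) = (t - 3) * (t - 3) * ((t - 2 - M) * (1 - M)) := by
    rw [show j * j * (a * b) = (j * a) * (j * b) by ring, eP, eB, eM]; ring
  have kC : (a - b) * (3 * (M * u) * (M * u) - 2 * (M * u) * (t * u) + t * u * (t * u)) =
      j * (u * u) * ((a - b) - a * b) →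
      4 * M * M - 4 * M * (t - 1) + t * t - 4 = 0 := by
    intro h
    apply mul_left_cancel₀ (mul_ne_zero hs hs)
    have h' : (a - b) * (3 * M * M - 2 * M * t + t * t) = j * ((a - b) - a * b) := by
      apply mul_left_cancel₀ hu2; linear_combination h
    linear_combination j * h' - (3 * M * M - 2 * M * t + t * t) * ed + j * ed - eab
      + (t - 3) * (t - 3) * eM
  have kA : (a - b) * (3 * (M * u) * (M * u) + t * u * (t * u)) =
      3 * (j * (u * u)) * ((a - b) + a * b) → t * t = 6 * t - 6 * M := by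
    intro h
    apply mul_left_cancel₀ (mul_ne_zero hs hs)
    have h' : (a - b) * (3 * M * M + t * t) = 3 * j * ((a - b) + a * b) := by
      apply mul_left_cancel₀ hu2; linear_combination h
    linear_combination j * h' - (3 * M * M + t * t) * ed + 3 * j * ed + 3 * eab
      + 3 * (t - 3) * (t - 3) * eM
  have hnA : 3 * (t * u - 2 * u) * (t * u - 2 * u) + t * u * (t * u) ≠ 3 * (j * (u * u)) * (1 + a) := by
    intro h
    have e : t * t = 12 := by
      apply mul_left_cancel₀ hu2; linear_combination h + 3 * (u * u) * eP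
    obtain ⟨z, hz⟩ := int_root_four 0 0 0 (-144) (s := t)
      (by push_cast; linear_combination (t * t + 12) * e)
    subst hz
    have e' : z * z = 12 := by exact_mod_cast e
    have : -4 < z ∧ z < 4 := ⟨by nlinarith, by nlinarith⟩
    obtain ⟨h1, h2⟩ := this
    interval_cases z <;> norm_num at e'
  rcases hC with hC | hC | hC
  · have ht : t = 2 := by
      have : (t - 2) * (t - 2) = 0 := by
        apply mul_left_cancel₀ hu2; linear_combination hC + (u * u) * eB
      exact sub_eq_zero.1 (mul_self_eq_zero.1 this)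
    subst ht
    refine ⟨rfl, ?_⟩
    have hj' : j = 8 / 3 := by
      rcases hA with hA | hA | hA
      · apply mul_left_cancel₀ hu2; linear_combination (-1 / 6) * hA + (1 / 2) * (u * u) * eB
      · exact absurd hA hnA
      · have := kA hA; linear_combination eM - (1 / 6) * this
    subst hj'
    linear_combination (3 / 8) * eP
  · exfalso
    have e : 2 * j = 3 * t * t - 12 * t + 20 := by
      apply mul_left_cancel₀ hu2; linear_combination -hC + (u * u) * eP
    rcases hA with hA | hA | hA
    · have e' : 6 * j = t * t + 6 * t := by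
        apply mul_left_cancel₀ hu2; linear_combination -hA + 3 * (u * u) * eB
      nlinarith [sq_nonneg (t - 21 / 8)]
    · exact absurd hA hnA
    · have e' := kA hA
      obtain ⟨z, hz⟩ := int_root_four (s := t - 3) 9 3 3 0
        (by push_cast; linear_combination -3 * (t - 3) * e + 6 * (t - 3) * eM + (t - 3) * (t - 3) * e')
      have hz' : t = z + 3 := by linear_combination hz
      subst hz'
      have : (z : ℚ) * ((z : ℚ) ^ 3 + 9 * (z : ℚ) ^ 2 + 3 * z + 3) = 0 := by
        linear_combination -3 * (z : ℚ) * e + 6 * (z : ℚ) * eM + (z : ℚ) * z * e'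
      have hz0 : z ≠ 0 := fun h => hs (by simp [h])
      have h2 : z ^ 3 + 9 * z ^ 2 + 3 * z + 3 = 0 := by
        exact_mod_cast (mul_eq_zero.1 this).resolve_left (by exact_mod_cast hz0)
      have : z ∣ 3 := ⟨-(z ^ 2 + 9 * z + 3), by linear_combination h2⟩
      have h3 := Int.le_of_dvd (by norm_num) this
      have h4 := Int.le_of_dvd (by norm_num) (Int.neg_dvd.2 this)
      have h5 : -3 ≤ z := by omega
      interval_cases z <;> norm_num at h2
  · exfalso
    have e := kC hC
    rcases hA with hA | hA | hA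
    · have e' : 6 * j = t * t + 6 * t := by
        apply mul_left_cancel₀ hu2; linear_combination -hA + 3 * (u * u) * eB
      have e6 : 6 * M * (t - 3) = t * t - 12 := by linear_combination e' - 6 * eM
      have : 4 * (t - 3) ^ 4 + 18 * (t - 3) ^ 3 + 21 * (t - 3) ^ 2 + 9 = 0 := by
        linear_combination 9 * (t - 3) * (t - 3) * e
          - (6 * M * (t - 3) + (t * t - 12) - 6 * (t - 1) * (t - 3)) * e6
      nlinarith [sq_nonneg (2 * (t - 3) ^ 2 + 9 / 2 * (t - 3)), sq_nonneg (t - 3)]
    · exact absurd hA hnA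
    · have e' := kA hA
      obtain ⟨z, hz⟩ := int_root_four (s := t - 3) 6 3 0 18
        (by push_cast; linear_combination 9 * e + (6 * (t - 1) - (6 * M + 6 * t - t * t)) * e')
      have hz' : t = z + 3 := by linear_combination hz
      subst hz'
      have h2 : z ^ 4 + 6 * z ^ 3 + 3 * z ^ 2 + 18 = 0 := by
        have : (z : ℚ) ^ 4 + 6 * (z : ℚ) ^ 3 + 3 * (z : ℚ) ^ 2 + 18 = 0 := by
          linear_combination 9 * e + (6 * ((z : ℚ) + 2) - (6 * M + 6 * ((z : ℚ) + 3)
            - ((z : ℚ) + 3) * ((z : ℚ) + 3))) * e'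
        exact_mod_cast this
      have h3 : z ^ 2 ∣ 18 := ⟨-(z ^ 2 + 6 * z + 3), by linear_combination h2⟩
      have h4 := Int.le_of_dvd (by norm_num) h3
      have : -5 < z ∧ z < 5 := ⟨by nlinarith, by nlinarith⟩
      obtain ⟨h5, h6⟩ := this
      interval_cases z <;> norm_num at h2

/-- A signed degree `-1` forces a linear constituent. -/
theorem deg_one_of_add {e : ℤ} {n : ℕ} (he : e = 0 ∨ e = 1 ∨ e = -1)
    (h : 1 + (e : ℂ) * (n : ℂ) = 0) : n = 1 ∧ e = -1 := by
  have : (1 : ℤ) + e * n = 0 := by exact_mod_cast h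
  rcases he with rfl | rfl | rfl <;> constructor <;> omega

/-- A constituent of degree two at which the first involution acts trivially. -/
theorem exists_degree_two {mP mB mC mA mE : ι → ℤ} {x y : ι → ℚ} {J : ℚ} (hJ : J ≠ 0)
    (hd0 : ∀ i, d i ≠ 0) (hdo : d o = 1) (hxo : x o = 0) (hyo : y o = 0)
    (hlin : ∀ i, i ≠ o → d i = 1 → mP i ≠ -1 ∧ mB i ≠ -1)
    (hP : Quad o d (fun i => (x i : ℂ)) (fun i => (y i : ℂ)) mP J J (2 * J))
    (hB : Quad o d (fun i => (x i : ℂ)) (fun i => (y i : ℂ)) mB 0 J J)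
    (hC : Quad o d (fun i => (x i : ℂ)) (fun i => (y i : ℂ)) mC (J / 2) (J / 2) (3 / 2 * J))
    (hA : Quad o d (fun i => (x i : ℂ)) (fun i => (y i : ℂ)) mA J 0 (3 * J))
    (hE : Tri o d (fun i => (x i : ℂ)) (fun i => (y i : ℂ)) mE J 0 0)
    (hPB : ∑ i, mP i * mB i = 2) (hPE : ∑ i, mP i * mE i = 1) (hBE : ∑ i, mB i * mE i = -1)
    (hCE : ∑ i, mC i * mE i = -1) (hAE : ∑ i, mA i * mE i = 1) :
    ∃ r, r ≠ o ∧ d r = 2 ∧ x r = 0 ∧ mE r ≠ 0 := by
  have hxo' : ((x o : ℚ) : ℂ) = 0 := by simp [hxo]
  have hyo' : ((y o : ℚ) : ℂ) = 0 := by simp [hyo]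
  obtain ⟨e, he, hPe, hEe, -⟩ := common hP hE hd0 hdo (Or.inl rfl) hPE
  obtain ⟨i, hi, hBi, hEi, huBE⟩ := common hB hE hd0 hdo (Or.inr rfl) hBE
  obtain ⟨h, hh, hPh, hBh, huPB⟩ := hP.common hB hd0 hPB
  rw [one_mul] at hEe
  rw [neg_one_mul] at hEi
  have uP := hP.card_support.2
  have uB := hB.card_support.2
  have hBh0 : mB h ≠ 0 := hBh ▸ hPh
  have hei : e ≠ i := by
    intro k; subst k
    have := huPB e he hPe hBi
    subst this
    exact hPe (by omega)
  have hhe : h ≠ e := by
    intro k; subst k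
    exact hei (huBE h hh hBh0 (hEe ▸ hPe))
  have hhi : h ≠ i := by
    intro k; subst k
    have := hei
    by_cases hm : mP h = 0
    · exact hPh hm
    · have hEh : mE h ≠ 0 := by omega
      have eh : h = e := by
        obtain ⟨r, -, -, -, hu⟩ := common hP hE hd0 hdo (Or.inl rfl) hPE
        exact (hu h hh hm hEh).trans (hu e he hPe (hEe ▸ hPe)).symm
      exact this eh.symm
  obtain ⟨k, hk, hki, hkj, hEk, hsup, hdeg, hmx, hsq, hye, hyk⟩ :=
    hE.identity hd0 (by exact_mod_cast hJ) he hi hei (hEe ▸ hPe) (by omega)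
  have pe := (hP.identity hd0 hdo hxo' hyo' he hPe).1
  have bi := (hB.identity hd0 hdo hxo' hyo' hi hBi).1
  have ph := (hP.identity hd0 hdo hxo' hyo' hh hPh).1
  have bh := (hB.identity hd0 hdo hxo' hyo' hh hBh0).1
  have cb := (hB.identity hd0 hdo hxo' hyo' hh hBh0).2 i hi hhi.symm hBi
  have cp := (hP.identity hd0 hdo hxo' hyo' hh hPh).2 e he hhe.symm hPe
  have ye : y e = y i := by exact_mod_cast hye
  have yk : y k = y i := by
    have : y k = y e := by exact_mod_cast hyk
    rw [this, ye]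
  -- signed degrees
  set ne : ℤ := mP e * d e with hne
  set ni : ℤ := mB i * d i with hni
  set nh : ℤ := mP h * d h with hnh
  have hne0 : ne ≠ 0 := mul_ne_zero hPe (Int.natCast_ne_zero.2 (hd0 e))
  have hni0 : ni ≠ 0 := mul_ne_zero hBi (Int.natCast_ne_zero.2 (hd0 i))
  have hnh0 : nh ≠ 0 := mul_ne_zero hPh (Int.natCast_ne_zero.2 (hd0 h))
  have hnk : mE k * (d k : ℤ) = ni - ne := by
    have : ((mE k * (d k : ℤ) : ℤ) : ℂ) = ((ni - ne : ℤ) : ℂ) := by
      rw [hEe, hEi] at hdeg
      simp only [ne, ni]; push_cast at hdeg ⊢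
      linear_combination hdeg
    exact_mod_cast this
  have hnik : ni - ne ≠ 0 := hnk ▸ mul_ne_zero hEk (Int.natCast_ne_zero.2 (hd0 k))
  have cast : ∀ {p q : ℚ}, (p : ℂ) = (q : ℂ) → p = q := fun hpq => by exact_mod_cast hpq
  have qpe : (ne : ℚ) * (2 * x e * x e - 2 * x e * y i + y i * y i) = (1 + (ne : ℚ)) * J := by
    rw [ye.symm]
    apply mul_left_cancel₀ hJ
    refine cast ?_
    simp only [ne]; push_cast; linear_combination pe
  have qbi : (ni : ℚ) * (2 * x i * y i - x i * x i) = (1 + (ni : ℚ)) * J := by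
    apply mul_left_cancel₀ hJ
    refine cast ?_
    simp only [ni]; push_cast; linear_combination -bi
  have qph : (nh : ℚ) * (2 * x h * x h - 2 * x h * y h + y h * y h) = (1 + (nh : ℚ)) * J := by
    apply mul_left_cancel₀ hJ
    refine cast ?_
    simp only [nh]; push_cast; linear_combination ph
  have qbh : (nh : ℚ) * (2 * x h * y h - x h * x h) = (1 + (nh : ℚ)) * J := by
    apply mul_left_cancel₀ hJ
    refine cast ?_
    rw [hBh] at bh
    simp only [nh]; push_cast; linear_combination -bh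
  have qcb : x h * y i + x i * y h - x h * x i = J := by
    apply mul_left_cancel₀ hJ
    refine cast ?_
    push_cast; linear_combination -cb
  have qcp : 2 * x h * x e - x h * y i - x e * y h + y h * y i = J := by
    rw [ye.symm]
    apply mul_left_cancel₀ hJ
    refine cast ?_
    push_cast; linear_combination cp
  have qsq : -((ne : ℚ) * ni) * ((x e - x i) * (x e - x i)) = J * ((ne : ℚ) - ni) := by
    refine cast ?_
    rw [hEe, hEi] at hsq
    simp only [ne, ni]; push_cast at hsq ⊢
    linear_combination hsq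
  have qmx : (ne : ℚ) * x e - (ni : ℚ) * x i + ((ni : ℚ) - ne) * x k = 0 := by
    refine cast ?_
    have hnk' : (mE k : ℂ) * (d k : ℂ) = ((ni - ne : ℤ) : ℂ) := by exact_mod_cast hnk
    rw [hEe, hEi, hnk'] at hmx
    simp only [ne, ni] at hmx ⊢; push_cast at hmx ⊢
    linear_combination hmx
  have neQ : (ne : ℚ) ≠ 0 := Int.cast_ne_zero.2 hne0
  have niQ : (ni : ℚ) ≠ 0 := Int.cast_ne_zero.2 hni0
  have nhQ : (nh : ℚ) ≠ 0 := Int.cast_ne_zero.2 hnh0
  have hne1 : (1 : ℚ) + ne ≠ 0 := by
    intro k1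
    have h1 : (1 : ℂ) + (mP e : ℂ) * (d e : ℂ) = 0 := by
      have : (1 : ℤ) + ne = 0 := by exact_mod_cast k1
      exact_mod_cast this
    obtain ⟨h2, h3⟩ := deg_one_of_add (uP e he) h1
    exact (hlin e he h2).1 h3
  have hni1 : (1 : ℚ) + ni ≠ 0 := by
    intro k1
    have h1 : (1 : ℂ) + (mB i : ℂ) * (d i : ℂ) = 0 := by
      have : (1 : ℤ) + ni = 0 := by exact_mod_cast k1
      exact_mod_cast this
    obtain ⟨h2, h3⟩ := deg_one_of_add (uB i hi) h1
    exact (hlin i hi h2).2 h3
  have hxi : x i ≠ 0 := by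
    intro k1
    rw [k1] at qbi
    exact mul_ne_zero hni1 hJ (by linear_combination -qbi)
  -- the two branches
  have hxe : x e = y i - 2 * x i := by
    have hz : (x e - y i) * (x e - y i + 2 * x i) = 0 := by
      have : ((ne : ℚ) * ni) * ((x e - y i) * (x e - y i + 2 * x i)) = 0 := by
        linear_combination (ni : ℚ) * qpe - (ne : ℚ) * qbi + qsq
      exact (mul_eq_zero.1 this).resolve_left (mul_ne_zero neQ niQ)
    rcases mul_eq_zero.1 hz with k1 | k1
    · exfalso
      have hxe : x e = y i := sub_eq_zero.1 k1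
      rw [hxe] at qpe qcp
      have hJh : x h * y i = J := by linear_combination qcp
      have hk : (y h - x h) * (y h - 3 * x h) = 0 := by
        have : (nh : ℚ) * ((y h - x h) * (y h - 3 * x h)) = 0 := by linear_combination qph - qbh
        exact (mul_eq_zero.1 this).resolve_left nhQ
      rcases mul_eq_zero.1 hk with k2 | k2
      · -- the third constituent of `mP` would vanish
        rw [sub_eq_zero.1 k2] at qph
        have : ((ne : ℚ) * nh - (1 + ne) * (1 + nh)) * (J * J) = 0 := by
          linear_combination (-((ne : ℚ) * nh) * (J + x h * y i)) * hJh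
            + (nh : ℚ) * x h * x h * qpe + (1 + (ne : ℚ)) * J * qph
        have h2 := (mul_eq_zero.1 this).resolve_right (mul_ne_zero hJ hJ)
        have hsum : ne + nh + 1 = 0 := by
          have : (((ne + nh + 1 : ℤ)) : ℚ) = 0 := by push_cast; linear_combination -h2
          exact_mod_cast this
        classical
        obtain ⟨hc, -⟩ := hP.card_support
        obtain ⟨f, hf⟩ : (((Finset.univ.erase o).filter fun l => mP l ≠ 0).erase e |>.erase h).Nonempty := by
          rw [← Finset.card_pos, Finset.card_erase_of_mem, Finset.card_erase_of_mem, hc]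
          · norm_num
          · simp [he, hPe]
          · simp [hh, hPh, hhe]
        simp only [Finset.mem_erase, Finset.mem_filter] at hf
        have hsupP : ∀ l, l ≠ o → mP l ≠ 0 → l = e ∨ l = h ∨ l = f := by
          intro l hl hml
          by_contra hno
          push Not at hno
          have hsub : ({e, h, f, l} : Finset ι) ⊆ (Finset.univ.erase o).filter fun l => mP l ≠ 0 := by
            intro z hz
            simp only [Finset.mem_insert, Finset.mem_singleton] at hz
            rcases hz with rfl | rfl | rfl | rfl <;> simp_all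
          have := Finset.card_le_card hsub
          rw [Finset.card_insert_of_notMem (by simp [hhe.symm, hf.2.1.symm, hno.1.symm]),
            Finset.card_insert_of_notMem (by simp [hf.1.symm, hno.2.1.symm]),
            Finset.card_pair hno.2.2.symm] at this
          omega
        have hs3 := hP.sum_three hhe.symm hf.2.1.symm hf.1.symm hsupP he hh hf.2.2.1.1
          (fun l => (d l : ℂ))
        have h0 : ∑ l, (mP l : ℂ) * (d l : ℂ) = 0 := by exact_mod_cast hP.deg
        rw [h0] at hs3
        have : (0 : ℤ) = (d o : ℤ) + (ne + (nh + mP f * d f)) := by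
          simp only [ne, nh]; exact_mod_cast hs3
        rw [hdo] at this
        have : mP f * (d f : ℤ) = 0 := by omega
        exact mul_ne_zero hf.2.2.2 (Int.natCast_ne_zero.2 (hd0 f)) this
      · have hy3 : y h = 3 * x h := sub_eq_zero.1 k2
        rw [hy3] at qcb
        have h0 : x h * x i = 0 := by linear_combination (qcb - hJh) / 2
        have hxh : x h ≠ 0 := fun k3 => hJ (by rw [← hJh, k3, zero_mul])
        exact hxi ((mul_eq_zero.1 h0).resolve_left hxh)
    · linear_combination k1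
  obtain ⟨ic, hic, hCic, hEic, -⟩ := common hC hE hd0 hdo (Or.inr rfl) hCE
  obtain ⟨ia, hia, hAia, hEia, -⟩ := common hA hE hd0 hdo (Or.inl rfl) hAE
  rw [neg_one_mul] at hEic
  rw [one_mul] at hEia
  have cc := (hC.identity hd0 hdo hxo' hyo' hic hCic).1
  have ca := (hA.identity hd0 hdo hxo' hyo' hia hAia).1
  have qc : ((-(mE ic * d ic) : ℤ) : ℚ) * (3 * x ic * x ic - 2 * x ic * y ic + y ic * y ic) =
      (1 + ((-(mE ic * d ic) : ℤ) : ℚ)) * J := by
    apply mul_left_cancel₀ hJ
    refine cast ?_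
    rw [hEic]
    push_cast; linear_combination 2 * cc
  have qa : ((mE ia * d ia : ℤ) : ℚ) * (3 * x ia * x ia + y ia * y ia) =
      (1 + ((mE ia * d ia : ℤ) : ℚ)) * (3 * J) := by
    apply mul_left_cancel₀ hJ
    refine cast ?_
    rw [hEia]
    push_cast; linear_combination ca
  -- pass to reciprocals
  have hkQ : (ni : ℚ) - ne ≠ 0 := by exact_mod_cast hnik
  have hkey : y i = 2 * x i ∧ (1 : ℚ) / ne = 1 / 2 := by
    refine core (t := y i / x i) (M := x k / x i) (c := x k) (J := J) (b := 1 / (ni : ℚ)) hJ ?_ ?_ ?_ ?_ ?_ hxi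
      (by field_simp) (by field_simp) ?_ ?_
    · intro k1
      rw [div_eq_div_iff neQ niQ, one_mul, one_mul] at k1
      exact hkQ (by linear_combination k1)
    · rw [hxe] at qpe
      field_simp
      linear_combination qpe
    · field_simp
      linear_combination qbi
    · rw [hxe] at qmx
      field_simp
      linear_combination qmx
    · rw [hxe] at qsq
      field_simp
      linear_combination qsq
    · rcases hsup ic hic (by omega) with k1 | k1 | k1
      · right; left
        rw [k1, ye, hxe, hEe] at qc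
        simp only [← hne] at qc
        push_cast at qc
        field_simp
        linear_combination -qc
      · left
        rw [k1, hEi] at qc
        simp only [neg_mul, ← hni, neg_neg] at qc
        field_simp
        linear_combination qc
      · right; right
        rw [k1, yk, hnk] at qc
        push_cast at qc
        field_simp
        linear_combination -qc
    · rcases hsup ia hia (by omega) with k1 | k1 | k1
      · right; left
        rw [k1, ye, hxe, hEe] at qa
        simp only [← hne] at qa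
        field_simp
        linear_combination qa
      · left
        rw [k1, hEi] at qa
        simp only [neg_mul, ← hni] at qa
        push_cast at qa
        field_simp
        linear_combination -qa
      · right; right
        rw [k1, yk, hnk] at qa
        push_cast at qa
        field_simp
        linear_combination qa
  obtain ⟨hy2, hn⟩ := hkey
  refine ⟨e, he, ?_, by rw [hxe, hy2]; ring, hEe ▸ hPe⟩
  have h2 : ne = 2 := by
    have : (ne : ℚ) = 2 := by field_simp at hn; linear_combination -hn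
    exact_mod_cast this
  rcases uP e he with k1 | k1 | k1 <;> simp only [ne, k1] at h2 <;> omega

end Cfsg.Agent.ThreeCubedSymFour
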